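import Mathlib
import Groth.Agent.AdicLinTop.CompletionQuot
import Groth.Agent.Calg1.Completion
import Groth.Agent.AdicLinTop.Adic
import Groth.Agent.FlatMorOne.LocalCriterion

/-! Completed principal localizations, characterized by their truncations. -/

set_option autoImplicit false

universe u

open scoped TensorProduct

namespace Groth.RigFlat65

/-- `T'` is the `J`-adic completion of the localization of `T` away from `f`. -/
structure IsCL {T : Type u} [CommRing T] (J : Ideal T) (f : T) (T' : Type u) [CommRing T'] [Algebra T T'] : Prop where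
  noeth : IsNoetherianRing T'
  complete : IsAdicComplete (J.map (algebraMap T T')) T'
  unit : IsUnit (algebraMap T T' f)
  surj : ∀ n x, ∃ k a, algebraMap T T' f ^ k * x - algebraMap T T' a ∈ J.map (algebraMap T T') ^ n
  inj : ∀ n a, algebraMap T T' a ∈ J.map (algebraMap T T') ^ n → ∃ k, f ^ k * a ∈ J ^ n

theorem isCL_completion {T : Type u} [CommRing T] [IsNoetherianRing T] (J : Ideal T) (f : T) :
    IsCL J f (AdicCompletion (J.map (algebraMap T (Localization.Away f))) (Localization.Away f)) := by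
  set L := Localization.Away f
  set JL := J.map (algebraMap T L) with hJL
  haveI : IsNoetherianRing L := IsLocalization.isNoetherianRing (Submonoid.powers f) _ inferInstance
  have hfg : JL.FG := IsNoetherian.noetherian _
  set T' := AdicCompletion JL L
  have hmap : J.map (algebraMap T T') = JL.map (algebraMap L T') := by
    show _ = Ideal.map (algebraMap L T') (J.map (algebraMap T L))
    rw [Ideal.map_map, ← IsScalarTower.algebraMap_eq]
  refine ⟨Groth.Calg1.isNoetherianRing_adicCompletion JL hfg, ?_, ?_, fun n x => ?_, fun n a ha => ?_⟩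
  · rw [hmap]
    exact Groth.AdicLinTop.CompletionQuot.isAdicComplete_map JL hfg
  · rw [IsScalarTower.algebraMap_apply T L T']
    exact (IsLocalization.Away.algebraMap_isUnit f).map _
  · obtain ⟨z, hz⟩ := Groth.AdicLinTop.CompletionQuot.exists_sub_mem JL hfg n x
    obtain ⟨k, a, hka⟩ := IsLocalization.Away.surj f z
    refine ⟨k, a, ?_⟩
    rw [hmap, IsScalarTower.algebraMap_apply T L T' a, ← hka, map_mul, map_pow,
      ← IsScalarTower.algebraMap_apply, mul_comm (algebraMap L T' z), ← mul_sub]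
    exact Ideal.mul_mem_left _ _ hz
  · rw [hmap, ← Groth.AdicLinTop.CompletionQuot.ker_evalₐ JL hfg] at ha
    have ha' : AdicCompletion.evalₐ JL n (algebraMap L T' (algebraMap T L a)) = 0 := by
      rw [← IsScalarTower.algebraMap_apply]; exact ha
    rw [Groth.AdicLinTop.CompletionQuot.evalₐ_algebraMap, Ideal.Quotient.eq_zero_iff_mem, hJL, ← Ideal.map_pow,
      IsLocalization.mem_map_algebraMap_iff (Submonoid.powers f)] at ha'
    obtain ⟨⟨⟨i, hi⟩, ⟨_, k, rfl⟩⟩, hik⟩ := ha'
    rw [← map_mul] at hik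
    obtain ⟨l, hl⟩ := IsLocalization.Away.exists_of_eq f hik
    refine ⟨l + k, ?_⟩
    rw [pow_add, mul_assoc, mul_comm (f ^ k), hl]
    exact Ideal.mul_mem_left _ _ hi

/-- An element congruent to a unit modulo an ideal in the Jacobson radical is a unit. -/
theorem isUnit_of_sub_mem {S : Type u} [CommRing S] {K : Ideal S} (hK : K ≤ Ideal.jacobson ⊥) {x y : S}
    (hy : IsUnit y) (h : x - y ∈ K) : IsUnit x := by
  obtain ⟨y, rfl⟩ := hy
  have h1 := Ideal.mem_jacobson_bot.mp (hK (K.mul_mem_left ↑y⁻¹ h)) 1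
  rw [mul_one, mul_sub, Units.inv_mul, sub_add_cancel] at h1
  exact (Units.isUnit_units_mul y⁻¹ x).mp h1

namespace IsCL

variable {T : Type u} [CommRing T] {J : Ideal T} {f : T} {T' : Type u} [CommRing T'] [Algebra T T']

theorem hom_ext (h : IsCL J f T') {S : Type u} [CommRing S] (K : Ideal S) [IsHausdorff K S]
    (φ ψ : T' →+* S) (heq : ∀ a, φ (algebraMap T T' a) = ψ (algebraMap T T' a))
    (hle : J.map (φ.comp (algebraMap T T')) ≤ K) : φ = ψ := by
  refine RingHom.ext fun x => sub_eq_zero.mp (IsHausdorff.haus' (I := K) _ fun n => ?_)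
  rw [SModEq.zero, smul_eq_mul, Ideal.mul_top]
  obtain ⟨k, a, hka⟩ := h.surj n x
  have hmem : ∀ χ : T' →+* S, (∀ a, φ (algebraMap T T' a) = χ (algebraMap T T' a)) →
      φ (algebraMap T T' f) ^ k * χ x - φ (algebraMap T T' a) ∈ K ^ n := fun χ hχ => by
    have h1 := Ideal.mem_map_of_mem χ hka
    rw [map_sub, map_mul, map_pow, ← hχ, ← hχ, Ideal.map_pow, Ideal.map_map,
      show χ.comp (algebraMap T T') = φ.comp (algebraMap T T') from RingHom.ext fun a => (hχ a).symm] at h1
    exact Ideal.pow_right_mono hle n h1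
  have h2 := sub_mem (hmem φ fun _ => rfl) (hmem ψ heq)
  rw [sub_sub_sub_cancel_right, ← mul_sub] at h2
  exact (Ideal.unit_mul_mem_iff_mem _ ((h.unit.map φ).pow k)).mp h2

theorem flat [IsNoetherianRing T] (h : IsCL J f T') : Module.Flat T T' := by
  haveI := h.noeth
  haveI := h.complete
  refine Groth.FlatMorOne.flat_of_forall_flat_mod_pow (S := T') J (IsAdicComplete.le_jacobson_bot _)
    fun n _ K _ => ?_
  suffices Module.Flat (T ⧸ J ^ n) ((T ⧸ J ^ n) ⊗[T] T') from
    Groth.FlatMorOne.injective_lTensor_of_flat_quotient (J ^ n) K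
  let Q := T' ⧸ (J ^ n).map (algebraMap T T')
  have hQ : ∀ a, algebraMap (T ⧸ J ^ n) Q (Ideal.Quotient.mk _ a) = Ideal.Quotient.mk _ (algebraMap T T' a) := fun a => rfl
  haveI : IsLocalization.Away (Ideal.Quotient.mk (J ^ n) f) Q := by
    refine IsLocalization.Away.mk _ (by rw [hQ]; exact h.unit.map _) (fun s => ?_) (fun a b hab => ?_)
    · obtain ⟨x, rfl⟩ := Ideal.Quotient.mk_surjective s
      obtain ⟨k, a, hka⟩ := h.surj n x
      refine ⟨k, Ideal.Quotient.mk _ a, ?_⟩
      rw [hQ, hQ, ← map_pow, ← map_mul, Ideal.Quotient.eq, mul_comm, Ideal.map_pow]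
      exact hka
    · obtain ⟨a, rfl⟩ := Ideal.Quotient.mk_surjective a
      obtain ⟨b, rfl⟩ := Ideal.Quotient.mk_surjective b
      rw [hQ, hQ, Ideal.Quotient.eq, ← map_sub, Ideal.map_pow] at hab
      obtain ⟨k, hk⟩ := h.inj n _ hab
      refine ⟨k, ?_⟩
      rw [← map_pow, ← map_mul, ← map_mul, Ideal.Quotient.eq, ← mul_sub]
      exact hk
  haveI : Module.Flat (T ⧸ J ^ n) Q := IsLocalization.flat _ (Submonoid.powers (Ideal.Quotient.mk (J ^ n) f))
  let e : (T ⧸ J ^ n) ⊗[T] T' ≃ₗ[T] Q := (TensorProduct.comm T _ _).trans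
    ((Algebra.TensorProduct.quotIdealMapEquivTensorQuot T' (J ^ n)).symm.toLinearEquiv.restrictScalars T)
  let e' : (T ⧸ J ^ n) ⊗[T] T' ≃ₗ[T ⧸ J ^ n] Q :=
    { e with
      map_smul' := fun c x => by
        obtain ⟨c, rfl⟩ := Ideal.Quotient.mk_surjective c
        show e (algebraMap T (T ⧸ J ^ n) c • x) = algebraMap T (T ⧸ J ^ n) c • e x
        rw [algebraMap_smul, algebraMap_smul, map_smul] }
  exact Module.Flat.of_linearEquiv e'

theorem exists_mem_of_mem_sup (h : IsCL J f T') (Q : Ideal T) (hf : IsUnit (Ideal.Quotient.mk Q f)) (n : ℕ)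
    {a : T} (ha : algebraMap T T' a ∈ Q.map (algebraMap T T') ⊔ J.map (algebraMap T T') ^ n) : a ∈ Q ⊔ J ^ n := by
  have key : ∀ y ∈ Q.map (algebraMap T T'), ∃ k, ∃ q ∈ Q, algebraMap T T' f ^ k * y - algebraMap T T' q ∈ J.map (algebraMap T T') ^ n := by
    intro y hy
    induction hy using Submodule.span_induction with
    | mem y hy =>
      obtain ⟨q, hq, rfl⟩ := hy
      exact ⟨0, q, hq, by simp⟩
    | zero => exact ⟨0, 0, zero_mem _, by simp⟩
    | add y z _ _ hy hz =>
      obtain ⟨k, q, hq, hy⟩ := hy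
      obtain ⟨l, r, hr, hz⟩ := hz
      refine ⟨k + l, f ^ l * q + f ^ k * r, add_mem (Q.mul_mem_left _ hq) (Q.mul_mem_left _ hr), ?_⟩
      have := add_mem (Ideal.mul_mem_left _ (algebraMap T T' f ^ l) hy) (Ideal.mul_mem_left _ (algebraMap T T' f ^ k) hz)
      convert this using 1
      rw [map_add, map_mul, map_mul, map_pow, map_pow]; ring
    | smul c y _ hy =>
      obtain ⟨k, q, hq, hy⟩ := hy
      obtain ⟨l, b, hb⟩ := h.surj n c
      refine ⟨l + k, b * q, Q.mul_mem_left _ hq, ?_⟩
      have := add_mem (Ideal.mul_mem_left _ (algebraMap T T' f ^ l * c) hy) (Ideal.mul_mem_right (algebraMap T T' q) _ hb)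
      convert this using 1
      rw [map_mul, smul_eq_mul]; ring
  obtain ⟨y, hy, z, hz, hyz⟩ := Submodule.mem_sup.mp ha
  obtain ⟨k, q, hq, hk⟩ := key y hy
  obtain ⟨l, hl⟩ := h.inj n (f ^ k * a - q) (by
    have := add_mem hk (Ideal.mul_mem_left _ (algebraMap T T' f ^ k) hz)
    convert this using 1
    rw [map_sub, map_mul, map_pow, ← hyz]; ring)
  have h2 : f ^ (l + k) * a ∈ Q ⊔ J ^ n := by
    rw [show f ^ (l + k) * a = f ^ l * q + f ^ l * (f ^ k * a - q) by ring]
    exact add_mem (Submodule.mem_sup_left (Q.mul_mem_left _ hq)) (Submodule.mem_sup_right hl)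
  obtain ⟨v, hv⟩ := hf.pow (l + k)
  obtain ⟨w, hw⟩ := Ideal.Quotient.mk_surjective (↑v⁻¹ : T ⧸ Q)
  have h3 : w * f ^ (l + k) - 1 ∈ Q := by
    rw [← Ideal.Quotient.eq_zero_iff_mem, map_sub, map_mul, map_pow, hw, ← hv, Units.inv_mul, map_one, sub_self]
  rw [show a = w * (f ^ (l + k) * a) - (w * f ^ (l + k) - 1) * a by ring]
  exact sub_mem (Ideal.mul_mem_left _ _ h2) (Submodule.mem_sup_left (Q.mul_mem_right _ h3))

/-- Quotients by ideals modulo which `f` is a unit do not change. -/
theorem quotientMap_bijective [IsNoetherianRing T] [IsAdicComplete J T] (h : IsCL J f T') (Q : Ideal T)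
    (hf : IsUnit (Ideal.Quotient.mk Q f)) :
    Function.Bijective (Ideal.quotientMap (Q.map (algebraMap T T')) (algebraMap T T') Ideal.le_comap_map) := by
  haveI := h.noeth
  haveI := h.complete
  set J' := J.map (algebraMap T T') with hJ'
  set Q' := Q.map (algebraMap T T') with hQ'
  constructor
  · refine (injective_iff_map_eq_zero _).mpr fun x hx => ?_
    obtain ⟨a, rfl⟩ := Ideal.Quotient.mk_surjective x
    rw [Ideal.quotientMap_mk, Ideal.Quotient.eq_zero_iff_mem] at hx
    have hall : Ideal.Quotient.mk Q a ∈ (⨅ n : ℕ, J ^ n • ⊤ : Submodule T (T ⧸ Q)) := by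
      rw [Submodule.mem_iInf]
      intro n
      obtain ⟨q, hq, i, hi, hqi⟩ := Submodule.mem_sup.mp (h.exists_mem_of_mem_sup Q hf n (Submodule.mem_sup_left hx))
      rw [← hqi, map_add, Ideal.Quotient.eq_zero_iff_mem.mpr hq, zero_add,
        show Ideal.Quotient.mk Q i = i • (1 : T ⧸ Q) by rw [Algebra.smul_def, mul_one]; rfl]
      exact Submodule.smul_mem_smul hi trivial
    rw [Ideal.iInf_pow_smul_eq_bot_of_le_jacobson J (IsAdicComplete.le_jacobson_bot J), Submodule.mem_bot] at hall
    exact hall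
  · intro y
    obtain ⟨x, rfl⟩ := Ideal.Quotient.mk_surjective y
    have happ : ∀ n, ∃ a, x - algebraMap T T' a ∈ Q' ⊔ J' ^ n := fun n => by
      obtain ⟨k, a, hka⟩ := h.surj n x
      obtain ⟨v, hv⟩ := hf.pow k
      obtain ⟨w, hw⟩ := Ideal.Quotient.mk_surjective (↑v⁻¹ : T ⧸ Q)
      have h3 : w * f ^ k - 1 ∈ Q := by
        rw [← Ideal.Quotient.eq_zero_iff_mem, map_sub, map_mul, map_pow, hw, ← hv, Units.inv_mul, map_one, sub_self]
      refine ⟨w * a, ?_⟩
      rw [show x - algebraMap T T' (w * a) = algebraMap T T' w * (algebraMap T T' f ^ k * x - algebraMap T T' a) -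
        algebraMap T T' (w * f ^ k - 1) * x by rw [map_mul, map_sub, map_mul, map_pow, map_one]; ring]
      exact sub_mem (Submodule.mem_sup_right (Ideal.mul_mem_left _ _ hka))
        (Submodule.mem_sup_left (Ideal.mul_mem_right _ _ (Ideal.mem_map_of_mem _ h3)))
    choose a ha using happ
    haveI := Groth.AdicLinTop.Adic.isAdicComplete_of_finite (I := J) (A := T) (M := T ⧸ Q)
    have hc : ∀ {m n : ℕ}, m ≤ n → Ideal.Quotient.mk Q (a m) ≡ Ideal.Quotient.mk Q (a n) [SMOD (J ^ m • ⊤ : Submodule T (T ⧸ Q))] := fun {m n} hmn => by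
      rw [SModEq.sub_mem, ← map_sub]
      have hmem : algebraMap T T' (a m - a n) ∈ Q' ⊔ J' ^ m := by
        rw [map_sub, show algebraMap T T' (a m) - algebraMap T T' (a n) =
          (x - algebraMap T T' (a n)) - (x - algebraMap T T' (a m)) by ring]
        exact sub_mem ((sup_le (le_sup_left : Q' ≤ Q' ⊔ J' ^ m) (le_sup_of_le_right (Ideal.pow_le_pow_right hmn))) (ha n)) (ha m)
      obtain ⟨q, hq, i, hi, hqi⟩ := Submodule.mem_sup.mp (h.exists_mem_of_mem_sup Q hf m hmem)
      rw [← hqi, map_add, Ideal.Quotient.eq_zero_iff_mem.mpr hq, zero_add,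
        show Ideal.Quotient.mk Q i = i • (1 : T ⧸ Q) by rw [Algebra.smul_def, mul_one]; rfl]
      exact Submodule.smul_mem_smul hi trivial
    obtain ⟨l, hl⟩ := IsPrecomplete.prec (inferInstance : IsPrecomplete J (T ⧸ Q)) hc
    obtain ⟨l, rfl⟩ := Ideal.Quotient.mk_surjective l
    refine ⟨Ideal.Quotient.mk Q l, ?_⟩
    rw [Ideal.quotientMap_mk]
    symm
    rw [← sub_eq_zero, ← map_sub]
    have hall : Ideal.Quotient.mk Q' (x - algebraMap T T' l) ∈ (⨅ n : ℕ, J' ^ n • ⊤ : Submodule T' (T' ⧸ Q')) := by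
      rw [Submodule.mem_iInf]
      intro n
      have h4 := hl n
      rw [SModEq.sub_mem, ← map_sub, Ideal.smul_top_eq_map, Submodule.restrictScalars_mem,
        Ideal.Quotient.algebraMap_eq, Ideal.mem_quotient_iff_mem_sup] at h4
      have h5 : x - algebraMap T T' l ∈ Q' ⊔ J' ^ n := by
        rw [show x - algebraMap T T' l = (x - algebraMap T T' (a n)) + algebraMap T T' (a n - l) by rw [map_sub]; ring]
        refine add_mem (ha n) ?_
        rw [sup_comm] at h4
        have := Ideal.mem_map_of_mem (algebraMap T T') h4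
        rwa [Ideal.map_sup, Ideal.map_pow] at this
      obtain ⟨q, hq, i, hi, hqi⟩ := Submodule.mem_sup.mp h5
      rw [← hqi, map_add, Ideal.Quotient.eq_zero_iff_mem.mpr hq, zero_add,
        show Ideal.Quotient.mk Q' i = i • (1 : T' ⧸ Q') by rw [Algebra.smul_def, mul_one]; rfl]
      exact Submodule.smul_mem_smul hi trivial
    rw [Ideal.iInf_pow_smul_eq_bot_of_le_jacobson J' (IsAdicComplete.le_jacobson_bot J'), Submodule.mem_bot] at hall
    exact hall

theorem comap_map [IsNoetherianRing T] [IsAdicComplete J T] (h : IsCL J f T') (Q : Ideal T)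
    (hf : IsUnit (Ideal.Quotient.mk Q f)) : (Q.map (algebraMap T T')).comap (algebraMap T T') = Q := by
  refine le_antisymm (fun a ha => ?_) Ideal.le_comap_map
  rw [← Ideal.Quotient.eq_zero_iff_mem]
  exact (h.quotientMap_bijective Q hf).1 (by rw [Ideal.quotientMap_mk, map_zero]; exact Ideal.Quotient.eq_zero_iff_mem.mpr ha)

theorem isPrime_map [IsNoetherianRing T] [IsAdicComplete J T] (h : IsCL J f T') (Q : Ideal T) [Q.IsPrime]
    (hf : IsUnit (Ideal.Quotient.mk Q f)) : (Q.map (algebraMap T T')).IsPrime := by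
  rw [← Ideal.Quotient.isDomain_iff_prime]
  exact (RingEquiv.ofBijective _ (h.quotientMap_bijective Q hf)).symm.toMulEquiv.isDomain (T ⧸ Q)

theorem finiteType {A : Type u} [CommRing A] [Algebra A T] [Algebra A T'] [IsScalarTower A T T']
    (h : IsCL J f T') [hT : Algebra.FiniteType A (T ⧸ J)] :
    Algebra.FiniteType A (T' ⧸ J.map (algebraMap T T')) := by
  obtain ⟨v, hv⟩ := h.unit
  set J' := J.map (algebraMap T T')
  have h1 : Algebra.FiniteType (T ⧸ J) (T' ⧸ J') := by
    refine Algebra.FiniteType.of_surjective (Polynomial.aeval (Ideal.Quotient.mk J' (↑v⁻¹ : T'))) fun y => ?_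
    obtain ⟨x, rfl⟩ := Ideal.Quotient.mk_surjective y
    obtain ⟨k, a, hka⟩ := h.surj 1 x
    rw [pow_one] at hka
    refine ⟨Polynomial.C (Ideal.Quotient.mk J a) * Polynomial.X ^ k, ?_⟩
    rw [map_mul, map_pow, Polynomial.aeval_C, Polynomial.aeval_X]
    show Ideal.Quotient.mk J' (algebraMap T T' a) * Ideal.Quotient.mk J' (↑v⁻¹ : T') ^ k = _
    rw [← map_pow, ← map_mul, Ideal.Quotient.eq]
    have h2 := Ideal.mul_mem_right ((↑v⁻¹ : T') ^ k) _ hka
    rw [sub_mul, mul_right_comm, ← mul_pow, ← hv, Units.mul_inv, one_pow, one_mul] at h2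
    rw [← neg_sub]
    exact neg_mem h2
  haveI : IsScalarTower A (T ⧸ J) (T' ⧸ J') := IsScalarTower.of_algebraMap_eq fun a => by
    show _ = Ideal.Quotient.mk J' (algebraMap T T' (algebraMap A T a))
    rw [← IsScalarTower.algebraMap_apply]
    rfl
  exact Algebra.FiniteType.trans hT h1

/-- Completed localization at `e * f` is a completed localization of the one at `e`. -/
theorem of_mul {T'' : Type u} [CommRing T''] [Algebra T T''] [Algebra T' T''] [IsScalarTower T T' T''] {g : T}
    (h1 : IsCL J f T') (h2 : IsCL J (f * g) T'') :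
    IsCL (J.map (algebraMap T T')) (algebraMap T T' g) T'' := by
  have hmap : (J.map (algebraMap T T')).map (algebraMap T' T'') = J.map (algebraMap T T'') := by
    rw [Ideal.map_map, ← IsScalarTower.algebraMap_eq]
  have hu := h2.unit
  rw [map_mul, IsUnit.mul_iff] at hu
  refine ⟨h2.noeth, by rw [hmap]; exact h2.complete, ?_, fun n x => ?_, fun n t ht => ?_⟩
  · rw [← IsScalarTower.algebraMap_apply]; exact hu.2
  · obtain ⟨k, a, hka⟩ := h2.surj n x
    obtain ⟨v, hv⟩ := h1.unit.pow k
    refine ⟨k, ↑v⁻¹ * algebraMap T T' a, ?_⟩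
    rw [hmap]
    have h3 := Ideal.mul_mem_left _ (algebraMap T' T'' (↑v⁻¹ : T')) hka
    convert h3 using 1
    rw [mul_sub, map_mul (algebraMap T T''), mul_pow, ← map_pow (algebraMap T T'') f k,
      IsScalarTower.algebraMap_apply T T' T'' (f ^ k), map_pow (algebraMap T T') f k, ← hv, ← IsScalarTower.algebraMap_apply T T' T'' g,
      map_mul (algebraMap T' T''), ← IsScalarTower.algebraMap_apply T T' T'' a, ← mul_assoc, ← mul_assoc,
      ← map_mul (algebraMap T' T''), Units.inv_mul, map_one, one_mul]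
  · rw [hmap] at ht
    obtain ⟨k, a, hka⟩ := h1.surj n t
    have h3 : algebraMap T T'' a ∈ J.map (algebraMap T T'') ^ n := by
      have h4 := Ideal.mem_map_of_mem (algebraMap T' T'') hka
      rw [map_sub, map_mul, Ideal.map_pow, hmap, ← IsScalarTower.algebraMap_apply T T' T'' a] at h4
      rw [← neg_mem_iff, neg_eq_zero_sub]
      have h5 := sub_mem h4 (Ideal.mul_mem_left _ (algebraMap T' T'' (algebraMap T T' f ^ k)) ht)
      convert h5 using 1
      ring
    obtain ⟨l, hl⟩ := h2.inj n a h3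
    refine ⟨l, ?_⟩
    have h6 := Ideal.mem_map_of_mem (algebraMap T T') hl
    rw [Ideal.map_pow, map_mul, map_pow, map_mul, mul_pow] at h6
    have h7 := add_mem h6 (Ideal.mul_mem_left _ (algebraMap T T' f ^ l * algebraMap T T' g ^ l) hka)
    rw [← mul_add, add_sub_cancel, ← mul_assoc, mul_assoc (algebraMap T T' f ^ l), mul_comm (algebraMap T T' f ^ l),
      mul_assoc (algebraMap T T' g ^ l), ← pow_add, mul_comm (algebraMap T T' g ^ l), mul_assoc] at h7
    exact (Ideal.unit_mul_mem_iff_mem _ (h1.unit.pow (l + k))).mp (by convert h7 using 1; ring)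

end IsCL

end Groth.RigFlat65
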