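import Mathlib
import Groth.Agent.RigFlat65.CompLoc
import Groth.Agent.S8804
import Groth.Agent.AdicLinTop.RigClosed

/-! Rig-closed primes: finiteness, contraction, and refinement by a principal localization. -/

set_option autoImplicit false

universe u

namespace Groth.RigFlat65

/-- A rig-closed prime. -/
def IsRig {B : Type u} [CommRing B] (J : Ideal B) (q : PrimeSpectrum B) : Prop :=
  ¬ J ≤ q.asIdeal ∧ ∀ y : PrimeSpectrum B, q ≤ y → ¬ J ≤ y.asIdeal → y = q

theorem rig_radical {B : Type u} [CommRing B] [IsNoetherianRing B] {J : Ideal B} [IsAdicComplete J B]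
    {q : PrimeSpectrum B} (hq : IsRig J q) :
    Ring.KrullDimLE 1 (B ⧸ q.asIdeal) ∧ (∀ M : Ideal (B ⧸ q.asIdeal), M.IsMaximal →
      M = (J.map (Ideal.Quotient.mk q.asIdeal)).radical) := by
  obtain ⟨hdim, hmax, -⟩ := ((Groth.Agent.S8804.result B J q).out 0 2 rfl rfl).mp hq
  exact ⟨Ring.krullDimLE_iff.mpr hdim.le, hmax⟩

/-- A prime integral over a rig-closed prime is rig-closed. -/
theorem rig_of_integral {A B : Type u} [CommRing A] [CommRing B] [Algebra A B] {I : Ideal A}
    {p : PrimeSpectrum A} (hp : IsRig I p) {q : PrimeSpectrum B} (hpq : q.asIdeal.comap (algebraMap A B) = p.asIdeal)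
    [Algebra.IsIntegral A (B ⧸ q.asIdeal)] : IsRig (I.map (algebraMap A B)) q := by
  refine ⟨fun hle => hp.1 (hpq ▸ Ideal.map_le_iff_le_comap.mp hle), fun y hqy hy => ?_⟩
  by_contra hne
  obtain ⟨x, hxy, hxq⟩ := Set.not_subset.mp fun hle : (y.asIdeal : Set B) ⊆ q.asIdeal =>
    hne (PrimeSpectrum.ext (le_antisymm hle hqy))
  set P := y.asIdeal.map (Ideal.Quotient.mk q.asIdeal) with hP
  have hP0 : Ideal.Quotient.mk q.asIdeal x ≠ 0 := fun h => hxq (Ideal.Quotient.eq_zero_iff_mem.mp h)
  have hlt := Ideal.comap_lt_comap_of_integral_mem_sdiff (R := A) (I := (⊥ : Ideal (B ⧸ q.asIdeal))) (J := P) bot_le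
    ⟨Ideal.mem_map_of_mem _ hxy, fun h => hP0 (Ideal.mem_bot.mp h)⟩ (Algebra.IsIntegral.isIntegral _)
  obtain ⟨a, haP, ha⟩ := SetLike.exists_of_lt hlt
  have hay : a ∈ y.asIdeal.comap (algebraMap A B) := by
    obtain ⟨z, hz, hzx⟩ := (Ideal.mem_map_iff_of_surjective _ Ideal.Quotient.mk_surjective).mp haP
    have h1 : algebraMap A B a - z ∈ q.asIdeal := Ideal.Quotient.eq.mp (hzx.symm :)
    exact Ideal.mem_comap.mpr (by simpa using add_mem (hqy h1) hz)
  have hap : a ∉ p.asIdeal := fun h => ha (by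
    rw [Ideal.mem_comap, Ideal.mem_bot]
    show Ideal.Quotient.mk q.asIdeal (algebraMap A B a) = 0
    rw [← hpq] at h
    exact Ideal.Quotient.eq_zero_iff_mem.mpr h)
  let y' : PrimeSpectrum A := ⟨y.asIdeal.comap (algebraMap A B), y.isPrime.comap _⟩
  have hle : p ≤ y' := fun b hb => hqy (show algebraMap A B b ∈ q.asIdeal by rw [← hpq] at hb; exact hb)
  have := hp.2 y' hle fun h => hy (Ideal.map_le_iff_le_comap.mpr h)
  exact hap (this ▸ hay)

variable {T S : Type u} [CommRing T] [CommRing S] [IsNoetherianRing S] [Algebra T S] {I : Ideal T}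

/-- Finiteness from integrality of the residue field. -/
theorem finite_of_residue_integral [IsAdicComplete I T] [IsAdicComplete (I.map (algebraMap T S)) S]
    (hft : Algebra.FiniteType T (S ⧸ I.map (algebraMap T S))) {q : PrimeSpectrum S}
    (hq : IsRig (I.map (algebraMap T S)) q)
    (hk : ∀ M : Ideal (S ⧸ q.asIdeal), M.IsMaximal → Algebra.IsIntegral T ((S ⧸ q.asIdeal) ⧸ M)) :
    Module.Finite T (S ⧸ q.asIdeal) := by
  set IS := I.map (algebraMap T S) with hIS
  obtain ⟨hdim, hmax⟩ := rig_radical hq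
  let D := S ⧸ q.asIdeal
  set JD := IS.map (Ideal.Quotient.mk q.asIdeal) with hJD
  obtain ⟨M, hM⟩ := Ideal.exists_maximal D
  have hMeq : M = JD.radical := hmax M hM
  have hmapI : I.map (algebraMap T D) = JD := by
    rw [hJD, hIS, Ideal.map_map]
    rfl
  have hk' := hk M hM
  let E := D ⧸ JD
  haveI : Algebra.FiniteType T E := by
    haveI := hft
    refine Algebra.FiniteType.of_surjective (Ideal.Quotient.liftₐ IS
      ((Ideal.Quotient.mkₐ T JD).comp (Ideal.Quotient.mkₐ T q.asIdeal)) (fun b hb => ?_)) ?_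
    · exact Ideal.Quotient.eq_zero_iff_mem.mpr (Ideal.mem_map_of_mem _ hb)
    · intro z
      obtain ⟨d, rfl⟩ := Ideal.Quotient.mk_surjective z
      obtain ⟨b, rfl⟩ := Ideal.Quotient.mk_surjective d
      exact ⟨Ideal.Quotient.mk IS b, rfl⟩
  haveI : Algebra.IsIntegral T E := ⟨fun x => by
    obtain ⟨d, rfl⟩ := Ideal.Quotient.mk_surjective x
    obtain ⟨f, hf, hf0⟩ := hk'.isIntegral (Ideal.Quotient.mk M d)
    have h1 : Polynomial.aeval d f ∈ M := by
      rw [← Ideal.Quotient.eq_zero_iff_mem]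
      show Ideal.Quotient.mkₐ T M (Polynomial.aeval d f) = 0
      rw [← Polynomial.aeval_algHom_apply]
      exact hf0
    rw [hMeq] at h1
    obtain ⟨N, hN⟩ := h1
    refine ⟨f ^ N, hf.pow N, ?_⟩
    show Polynomial.aeval (Ideal.Quotient.mkₐ T JD d) (f ^ N) = 0
    rw [Polynomial.aeval_algHom_apply, map_pow]
    exact Ideal.Quotient.eq_zero_iff_mem.mpr hN⟩
  haveI : Module.Finite T E := Algebra.IsIntegral.finite
  haveI : IsHausdorff I D := by
    haveI := Groth.AdicLinTop.Adic.isAdicComplete_of_finite (I := IS) (A := S) (M := D)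
    exact (IsHausdorff.map_algebraMap_iff (S := S) (I := I) (M := D)).mp inferInstance
  refine Groth.Calg1.module_finite_of_isHausdorff I D ?_
  exact Groth.AdicLinTop.RigClosed.finite_quotient_of_eq (by rw [Ideal.smul_top_eq_map, hmapI] : JD.restrictScalars T = I • ⊤)

/-- Contraction of a rig-closed prime with finite residue ring. -/
theorem comap_rig_of_finite [IsAdicComplete (I.map (algebraMap T S)) S] {q : PrimeSpectrum S}
    (hq : IsRig (I.map (algebraMap T S)) q) [Module.Finite T (S ⧸ q.asIdeal)] :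
    IsRig I (PrimeSpectrum.comap (algebraMap T S) q) := by
  obtain ⟨hdim, hmax⟩ := rig_radical hq
  refine ⟨fun hle => hq.1 (Ideal.map_le_iff_le_comap.mpr hle), fun y hpy hIy => ?_⟩
  have hpy' : q.asIdeal.comap (algebraMap T S) ≤ y.asIdeal := hpy
  haveI := y.isPrime
  obtain ⟨Q, hQp, hQc⟩ := Ideal.exists_ideal_over_prime_of_isIntegral_of_isDomain (S := S ⧸ q.asIdeal) y.asIdeal
    (fun a ha => hpy' (show algebraMap T S a ∈ q.asIdeal from Ideal.Quotient.eq_zero_iff_mem.mp ha))
  have hQ0 : Q = ⊥ := by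
    by_contra h0
    apply hIy
    have hQm : Q.IsMaximal := hQp.isMaximal_of_ne_bot h0
    rw [← hQc, ← Ideal.map_le_iff_le_comap, hmax Q hQm, Ideal.map_map]
    exact Ideal.le_radical
  refine PrimeSpectrum.ext ?_
  show y.asIdeal = q.asIdeal.comap (algebraMap T S)
  rw [← hQc, hQ0]
  ext a
  exact Ideal.Quotient.eq_zero_iff_mem

/-- Over a rig-closed prime, the residue ring of a rig-closed prime is finite. -/
theorem finite_of_rig [IsNoetherianRing T] [IsAdicComplete I T] [IsAdicComplete (I.map (algebraMap T S)) S]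
    (hft : Algebra.FiniteType T (S ⧸ I.map (algebraMap T S))) {q : PrimeSpectrum S}
    (hq : IsRig (I.map (algebraMap T S)) q) (hp : IsRig I (PrimeSpectrum.comap (algebraMap T S) q)) :
    Module.Finite T (S ⧸ q.asIdeal) := by
  refine finite_of_residue_integral hft hq fun M hM => ?_
  obtain ⟨hdimS, hmax⟩ := rig_radical hq
  obtain ⟨hdimT, -⟩ := rig_radical hp
  let L := (S ⧸ q.asIdeal) ⧸ M
  letI : Field L := Ideal.Quotient.field M
  have hIM : I.map (algebraMap T (S ⧸ q.asIdeal)) ≤ M := by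
    rw [hmax M hM, Ideal.map_map]
    exact Ideal.le_radical
  haveI : Algebra.FiniteType T L := by
    haveI := hft
    refine Algebra.FiniteType.of_surjective (Ideal.Quotient.liftₐ (I.map (algebraMap T S))
      ((Ideal.Quotient.mkₐ T M).comp (Ideal.Quotient.mkₐ T q.asIdeal)) (fun b hb => ?_)) ?_
    · refine Ideal.Quotient.eq_zero_iff_mem.mpr (hIM ?_)
      have := Ideal.mem_map_of_mem (Ideal.Quotient.mk q.asIdeal) hb
      rwa [Ideal.map_map] at this
    · intro z
      obtain ⟨d, rfl⟩ := Ideal.Quotient.mk_surjective z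
      obtain ⟨b, rfl⟩ := Ideal.Quotient.mk_surjective d
      exact ⟨Ideal.Quotient.mk _ b, rfl⟩
  let P := RingHom.ker (algebraMap T L)
  haveI hPp : P.IsPrime := RingHom.ker_isPrime _
  set p := PrimeSpectrum.comap (algebraMap T S) q with hpdef
  have hpP : p.asIdeal ≤ P := fun a ha => by
    show algebraMap T L a = 0
    rw [IsScalarTower.algebraMap_apply T (S ⧸ q.asIdeal) L]
    show Ideal.Quotient.mk M (Ideal.Quotient.mk q.asIdeal (algebraMap T S a)) = 0
    rw [Ideal.Quotient.eq_zero_iff_mem.mpr (show algebraMap T S a ∈ q.asIdeal from ha), map_zero]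
  have hIP : I ≤ P := fun a ha => by
    show algebraMap T L a = 0
    rw [IsScalarTower.algebraMap_apply T (S ⧸ q.asIdeal) L]
    exact Ideal.Quotient.eq_zero_iff_mem.mpr (hIM (Ideal.mem_map_of_mem _ ha))
  haveI : P.IsMaximal := by
    haveI hP' : (P.map (Ideal.Quotient.mk p.asIdeal)).IsPrime :=
      Ideal.map_isPrime_of_surjective Ideal.Quotient.mk_surjective (by rw [Ideal.mk_ker]; exact hpP)
    have hne : P.map (Ideal.Quotient.mk p.asIdeal) ≠ ⊥ := fun h0 => hp.1 (hIP.trans (by
      rw [← Ideal.mk_ker (I := p.asIdeal)]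
      exact (Ideal.map_eq_bot_iff_le_ker _).mp h0))
    have hc : (P.map (Ideal.Quotient.mk p.asIdeal)).comap (Ideal.Quotient.mk p.asIdeal) = P := by
      rw [Ideal.comap_map_of_surjective _ Ideal.Quotient.mk_surjective, ← RingHom.ker_eq_comap_bot, Ideal.mk_ker,
        sup_eq_left.mpr hpP]
    rw [← hc]
    haveI := hP'.isMaximal_of_ne_bot hne
    exact Ideal.comap_isMaximal_of_surjective _ Ideal.Quotient.mk_surjective
  letI : Field (T ⧸ P) := Ideal.Quotient.field P
  letI : Algebra (T ⧸ P) L := (Ideal.Quotient.lift P (algebraMap T L) fun a ha => ha).toAlgebra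
  haveI : IsScalarTower T (T ⧸ P) L := IsScalarTower.of_algebraMap_eq fun a => rfl
  haveI : Algebra.FiniteType (T ⧸ P) L := Algebra.FiniteType.of_restrictScalars_finiteType T _ _
  haveI : Module.Finite (T ⧸ P) L := finite_of_finite_type_of_isJacobsonRing (T ⧸ P) L
  haveI : Module.Finite T L := Module.Finite.trans (T ⧸ P) L
  exact Algebra.IsIntegral.of_finite T L

/-- The contraction to an intermediate ring of a rig-closed prime lying over a rig-closed prime. -/
theorem rig_intermediate {U : Type u} [CommRing U] [Algebra T U] [Algebra U S] [IsScalarTower T U S]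
    [IsNoetherianRing T] [IsAdicComplete I T] [IsAdicComplete (I.map (algebraMap T S)) S]
    (hft : Algebra.FiniteType T (S ⧸ I.map (algebraMap T S))) {q : PrimeSpectrum S}
    (hq : IsRig (I.map (algebraMap T S)) q) (hp : IsRig I (PrimeSpectrum.comap (algebraMap T S) q)) :
    IsRig (I.map (algebraMap T U)) (PrimeSpectrum.comap (algebraMap U S) q) ∧
      Module.Finite U (S ⧸ q.asIdeal) := by
  haveI := finite_of_rig hft hq hp
  haveI : IsScalarTower T U (S ⧸ q.asIdeal) := IsScalarTower.of_algebraMap_eq fun a => by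
    show Ideal.Quotient.mk q.asIdeal (algebraMap T S a) = Ideal.Quotient.mk q.asIdeal (algebraMap U S (algebraMap T U a))
    rw [← IsScalarTower.algebraMap_apply]
  refine ⟨?_, Module.Finite.of_restrictScalars_finite T U _⟩
  set qU := PrimeSpectrum.comap (algebraMap U S) q with hqU
  let φ : U ⧸ qU.asIdeal →ₐ[T] S ⧸ q.asIdeal :=
    Ideal.quotientMapₐ q.asIdeal (IsScalarTower.toAlgHom T U S) le_rfl
  haveI : Algebra.IsIntegral T (U ⧸ qU.asIdeal) :=
    Algebra.IsIntegral.of_injective φ Ideal.quotientMap_injective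
  refine rig_of_integral hp ?_
  rw [hqU, PrimeSpectrum.comap_asIdeal, Ideal.comap_comap, ← IsScalarTower.algebraMap_eq]
  rfl

/-- An element after inverting which the residue field of a rig-closed point becomes integral. -/
theorem exists_residue_integral {A : Type u} [CommRing A] [Algebra A S] {J : Ideal S} [IsAdicComplete J S]
    (hft : Algebra.FiniteType A (S ⧸ J)) {q : PrimeSpectrum S} (hq : IsRig J q) :
    ∃ f : A, IsUnit (Ideal.Quotient.mk q.asIdeal (algebraMap A S f)) ∧
      ∀ (L : Type u) [Field L] [Algebra A L] (θ : S →ₐ[A] L), Function.Surjective θ → q.asIdeal ≤ RingHom.ker θ →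
        ∀ (T' : Type u) [CommRing T'] [Algebra A T'] [Algebra T' L] [IsScalarTower A T' L],
          IsUnit (algebraMap A T' f) → Algebra.IsIntegral T' L := by
  classical
  obtain ⟨hdim, hmax⟩ := rig_radical hq
  let D := S ⧸ q.asIdeal
  obtain ⟨M, hM⟩ := Ideal.exists_maximal D
  let L₀ := D ⧸ M
  letI : Field L₀ := Ideal.Quotient.field M
  haveI : Algebra.FiniteType A L₀ := by
    haveI := hft
    refine Algebra.FiniteType.of_surjective (Ideal.Quotient.liftₐ J
      ((Ideal.Quotient.mkₐ A M).comp (Ideal.Quotient.mkₐ A q.asIdeal)) (fun b hb => ?_)) ?_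
    · exact Ideal.Quotient.eq_zero_iff_mem.mpr ((hmax M hM).symm ▸ Ideal.le_radical (Ideal.mem_map_of_mem _ hb))
    · intro z
      obtain ⟨d, rfl⟩ := Ideal.Quotient.mk_surjective z
      obtain ⟨b, rfl⟩ := Ideal.Quotient.mk_surjective d
      exact ⟨Ideal.Quotient.mk _ b, rfl⟩
  let P := RingHom.ker (algebraMap A L₀)
  haveI : P.IsPrime := RingHom.ker_isPrime _
  letI : Algebra (A ⧸ P) L₀ := (RingHom.kerLift (algebraMap A L₀)).toAlgebra
  haveI : IsScalarTower A (A ⧸ P) L₀ := IsScalarTower.of_algebraMap_eq fun a => rfl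
  haveI : Module.IsTorsionFree (A ⧸ P) L₀ :=
    (faithfulSMul_iff_algebraMap_injective (A ⧸ P) L₀).mpr (RingHom.kerLift_injective _) |>.to_isTorsionFree
  let K := FractionRing (A ⧸ P)
  letI : Algebra K L₀ := FractionRing.liftAlgebra (A ⧸ P) L₀
  haveI : IsScalarTower A K L₀ := IsScalarTower.of_algebraMap_eq fun a => by
    rw [IsScalarTower.algebraMap_apply A (A ⧸ P) L₀, IsScalarTower.algebraMap_apply A (A ⧸ P) K,
      ← IsScalarTower.algebraMap_apply (A ⧸ P) K L₀]
  haveI : Algebra.FiniteType K L₀ := Algebra.FiniteType.of_restrictScalars_finiteType A _ _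
  haveI : Module.Finite K L₀ := finite_of_finite_type_of_isJacobsonRing K L₀
  obtain ⟨s, hs⟩ := (inferInstance : Algebra.FiniteType A L₀).out
  have hm : ∀ x : L₀, ∃ a : A, algebraMap A L₀ a ≠ 0 ∧ IsIntegral A (algebraMap A L₀ a * x) := fun x => by
    obtain ⟨⟨m, hm⟩, hint⟩ := IsIntegral.exists_multiple_integral_of_isLocalization (nonZeroDivisors (A ⧸ P)) (Rₘ := K) x
      (Algebra.IsIntegral.isIntegral x)
    obtain ⟨a, rfl⟩ := Ideal.Quotient.mk_surjective m
    refine ⟨a, fun h0 => nonZeroDivisors.ne_zero hm (Ideal.Quotient.eq_zero_iff_mem.mpr h0), ?_⟩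
    have : IsIntegral (A ⧸ P) (algebraMap A L₀ a * x) := by
      rw [Submonoid.smul_def, Algebra.smul_def] at hint
      exact hint
    exact isIntegral_trans _ this
  choose a ha hint using hm
  set f := ∏ x ∈ s, a x with hf
  have hf0 : algebraMap A L₀ f ≠ 0 := by
    rw [map_prod, Finset.prod_ne_zero_iff]
    exact fun x _ => ha x
  have hMuniq : ∀ M' : Ideal D, M'.IsMaximal → M' = M := fun M' hM' => (hmax M' hM').trans (hmax M hM).symm
  refine ⟨f, ?_, fun L _ _ θ hθ hqθ T' _ _ _ _ hu => ?_⟩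
  · by_contra hnu
    obtain ⟨M', hM', hfM⟩ := exists_max_ideal_of_mem_nonunits hnu
    rw [hMuniq M' hM'] at hfM
    exact hf0 (Ideal.Quotient.eq_zero_iff_mem.mpr hfM)
  · let θD : D →ₐ[A] L := Ideal.Quotient.liftₐ q.asIdeal θ hqθ
    have hθD : Function.Surjective θD := fun y => by
      obtain ⟨x, rfl⟩ := hθ y
      exact ⟨Ideal.Quotient.mk _ x, rfl⟩
    have hker : ∀ z ∈ M, θD z = 0 := fun z hz => by
      rw [← hMuniq _ (RingHom.ker_isMaximal_of_surjective θD.toRingHom hθD)] at hz
      exact hz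
    let e : L₀ →ₐ[A] L := Ideal.Quotient.liftₐ M θD hker
    have hes : Function.Surjective e := fun y => by
      obtain ⟨x, rfl⟩ := hθD y
      exact ⟨Ideal.Quotient.mk _ x, rfl⟩
    refine ⟨fun y => ?_⟩
    obtain ⟨x, rfl⟩ := hes y
    have hx : x ∈ Algebra.adjoin A (s : Set L₀) := hs ▸ Algebra.mem_top
    induction hx using Algebra.adjoin_induction with
    | mem x hx =>
      have h1 : IsIntegral T' (e (algebraMap A L₀ (a x) * x)) := (IsIntegral.map e (hint x)).tower_top
      rw [map_mul, AlgHom.commutes, IsScalarTower.algebraMap_apply A T' L] at h1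
      obtain ⟨v, hv⟩ := isUnit_of_dvd_unit (map_dvd (algebraMap A T') (Finset.dvd_prod_of_mem a hx)) hu
      rw [show e x = algebraMap T' L (↑v⁻¹ : T') * (algebraMap T' L (algebraMap A T' (a x)) * e x) by
        rw [← hv, ← mul_assoc, ← map_mul, Units.inv_mul, map_one, one_mul]]
      exact isIntegral_algebraMap.mul h1
    | algebraMap c =>
      rw [AlgHom.commutes, IsScalarTower.algebraMap_apply A T' L]
      exact isIntegral_algebraMap
    | add x y _ _ hx hy => rw [map_add]; exact hx.add hy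
    | mul x y _ _ hx hy => rw [map_mul]; exact hx.mul hy

/-- After a principal localization on the base, a rig-closed point lies over a rig-closed point. -/
theorem refine_point {A : Type u} [CommRing A] [Algebra A S] (IA : Ideal A) {J : Ideal S}
    (hJ : IA.map (algebraMap A S) = J) [IsAdicComplete J S] (hft : Algebra.FiniteType A (S ⧸ J)) {q : PrimeSpectrum S}
    (hq : IsRig J q) :
    ∃ f : A, IsUnit (Ideal.Quotient.mk q.asIdeal (algebraMap A S f)) ∧
      ∀ (T' : Type u) [CommRing T'] [IsNoetherianRing T'] [Algebra A T'] [IsAdicComplete (IA.map (algebraMap A T')) T']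
        (S' : Type u) [CommRing S'] [Algebra S S'] [Algebra A S'] [IsScalarTower A S S'] [Algebra T' S']
        [IsScalarTower A T' S'],
        IsUnit (algebraMap A T' f) → IsCL J (algebraMap A S f) S' →
          ∃ q' : PrimeSpectrum S', q'.asIdeal = q.asIdeal.map (algebraMap S S') ∧
            q'.asIdeal.comap (algebraMap S S') = q.asIdeal ∧
            IsRig (J.map (algebraMap S S')) q' ∧
            IsRig (IA.map (algebraMap A T')) (PrimeSpectrum.comap (algebraMap T' S') q') := by
  obtain ⟨f, hf, hint⟩ := exists_residue_integral hft hq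
  refine ⟨f, hf, ?_⟩
  intro T' _ _ _ _ S' _ _ _ _ _ _ hu hcl
  haveI := hcl.noeth
  haveI hc := hcl.complete
  haveI := hcl.isPrime_map q.asIdeal hf
  let q' : PrimeSpectrum S' := ⟨q.asIdeal.map (algebraMap S S'), inferInstance⟩
  have hcomap := hcl.comap_map q.asIdeal hf
  have hbij := hcl.quotientMap_bijective q.asIdeal hf
  haveI : Algebra.IsIntegral S (S' ⧸ q'.asIdeal) := ⟨fun y => by
    obtain ⟨x, rfl⟩ := hbij.2 y
    obtain ⟨x, rfl⟩ := Ideal.Quotient.mk_surjective x
    exact isIntegral_algebraMap⟩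
  have hq' : IsRig (J.map (algebraMap S S')) q' := rig_of_integral hq hcomap
  refine ⟨q', rfl, hcomap, hq', ?_⟩
  have hJ' : J.map (algebraMap S S') = (IA.map (algebraMap A T')).map (algebraMap T' S') := by
    rw [← hJ, Ideal.map_map, Ideal.map_map, ← IsScalarTower.algebraMap_eq, ← IsScalarTower.algebraMap_eq]
  have hftA := @IsCL.finiteType _ _ J _ S' _ _ A _ _ _ _ hcl hft
  rw [hJ'] at hq' hc hftA
  haveI := hc
  haveI := hftA
  haveI : Algebra.FiniteType T' (S' ⧸ (IA.map (algebraMap A T')).map (algebraMap T' S')) :=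
    Algebra.FiniteType.of_restrictScalars_finiteType A _ _
  haveI : Module.Finite T' (S' ⧸ q'.asIdeal) := by
    refine finite_of_residue_integral inferInstance hq' fun M hM => ?_
    letI : Field ((S' ⧸ q'.asIdeal) ⧸ M) := Ideal.Quotient.field M
    refine hint _ (((Ideal.Quotient.mkₐ A M).comp (Ideal.Quotient.mkₐ A q'.asIdeal)).comp
      (IsScalarTower.toAlgHom A S S')) (fun y => ?_) (fun x hx => ?_) T' hu
    · obtain ⟨y, rfl⟩ := Ideal.Quotient.mk_surjective y
      obtain ⟨x, rfl⟩ := hbij.2 y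
      obtain ⟨x, rfl⟩ := Ideal.Quotient.mk_surjective x
      exact ⟨x, rfl⟩
    · show Ideal.Quotient.mk M (Ideal.Quotient.mk q'.asIdeal (algebraMap S S' x)) = 0
      rw [Ideal.Quotient.eq_zero_iff_mem.mpr (Ideal.mem_map_of_mem _ hx), map_zero]
  exact comap_rig_of_finite hq'

end Groth.RigFlat65
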