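import Mathlib
import Groth.Agent.RigFlat65.Rig

/-! Transport along equalities of ideals. -/

set_option autoImplicit false

universe u

namespace Groth.RigFlat65

theorem map_tower {A : Type u} (B C : Type u) [CommRing A] [CommRing B] [CommRing C] [Algebra A B] [Algebra B C]
    [Algebra A C] [IsScalarTower A B C] (I : Ideal A) :
    (I.map (algebraMap A B)).map (algebraMap B C) = I.map (algebraMap A C) := by
  rw [Ideal.map_map, ← IsScalarTower.algebraMap_eq]

theorem complete_congr {S : Type u} [CommRing S] {K K' : Ideal S} (h : K = K') (hc : IsAdicComplete K S) :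
    IsAdicComplete K' S := h ▸ hc

theorem finiteType_congr {A S : Type u} [CommRing A] [CommRing S] [Algebra A S] {K K' : Ideal S} (h : K = K')
    (hc : Algebra.FiniteType A (S ⧸ K)) : Algebra.FiniteType A (S ⧸ K') := h ▸ hc

theorem rig_congr {S : Type u} [CommRing S] {K K' : Ideal S} (h : K = K') {q : PrimeSpectrum S}
    (hq : IsRig K q) : IsRig K' q := h ▸ hq

theorem cl_congr {T : Type u} [CommRing T] {J J' : Ideal T} {f f' : T} (h : J = J') (hf : f = f') {T' : Type u}
    [CommRing T'] [Algebra T T'] (hcl : IsCL J f T') : IsCL J' f' T' := by subst h; subst hf; exact hcl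

theorem finiteType_up {A : Type u} (T : Type u) {S : Type u} [CommRing A] [CommRing T] [CommRing S] [Algebra A T]
    [Algebra T S] [Algebra A S] [IsScalarTower A T S] {K : Ideal S} (h : Algebra.FiniteType A (S ⧸ K)) :
    Algebra.FiniteType T (S ⧸ K) := by
  haveI := h
  exact Algebra.FiniteType.of_restrictScalars_finiteType A _ _

theorem isUnit_down {A B C : Type u} [CommRing A] [CommRing B] [CommRing C] [Algebra A B] [Algebra B C]
    [Algebra A C] [IsScalarTower A B C] {a : A} (h : IsUnit (algebraMap B C (algebraMap A B a))) :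
    IsUnit (algebraMap A C a) := by rwa [IsScalarTower.algebraMap_apply A B C]

theorem isUnit_up {A B C : Type u} [CommRing A] [CommRing B] [CommRing C] [Algebra A B] [Algebra B C]
    [Algebra A C] [IsScalarTower A B C] {a : A} (h : IsUnit (algebraMap A C a)) :
    IsUnit (algebraMap B C (algebraMap A B a)) := by rwa [← IsScalarTower.algebraMap_apply]

theorem isUnit_left {R S : Type u} [CommRing R] [CommRing S] (φ : R →+* S) {x y : R} (h : IsUnit (φ (x * y))) :
    IsUnit (φ x) := (IsUnit.mul_iff.mp (map_mul φ x y ▸ h)).1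

theorem isUnit_right {R S : Type u} [CommRing R] [CommRing S] (φ : R →+* S) {x y : R} (h : IsUnit (φ (x * y))) :
    IsUnit (φ y) := (IsUnit.mul_iff.mp (map_mul φ x y ▸ h)).2

theorem finiteType_trans {A B S : Type u} [CommRing A] [CommRing B] [CommRing S] [Algebra A B] [Algebra B S]
    [Algebra A S] [IsScalarTower A B S] (I : Ideal A) (hB : Algebra.FiniteType A (B ⧸ I.map (algebraMap A B)))
    (hS : Algebra.FiniteType B (S ⧸ I.map (algebraMap A S))) : Algebra.FiniteType A (S ⧸ I.map (algebraMap A S)) := by
  let J := I.map (algebraMap A B)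
  let K := I.map (algebraMap A S)
  have hle : J ≤ K.comap (algebraMap B S) := by
    rw [← Ideal.map_le_iff_le_comap, map_tower]
  letI : Algebra (B ⧸ J) (S ⧸ K) := (Ideal.quotientMap K (algebraMap B S) hle).toAlgebra
  haveI : IsScalarTower B (B ⧸ J) (S ⧸ K) := IsScalarTower.of_algebraMap_eq fun b => rfl
  haveI : IsScalarTower A (B ⧸ J) (S ⧸ K) := IsScalarTower.of_algebraMap_eq fun a => by
    show Ideal.Quotient.mk K (algebraMap A S a) = Ideal.Quotient.mk K (algebraMap B S (algebraMap A B a))
    rw [← IsScalarTower.algebraMap_apply]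
  haveI := hS
  exact Algebra.FiniteType.trans hB (Algebra.FiniteType.of_restrictScalars_finiteType B _ _)

theorem jacobson_of_finiteType {A S : Type u} [CommRing A] [CommRing S] [Algebra A S] (I : Ideal A)
    [IsJacobsonRing (A ⧸ I)] (h : Algebra.FiniteType A (S ⧸ I.map (algebraMap A S))) :
    IsJacobsonRing (S ⧸ I.map (algebraMap A S)) := by
  haveI := h
  haveI : Algebra.FiniteType (A ⧸ I) (S ⧸ I.map (algebraMap A S)) :=
    Algebra.FiniteType.of_restrictScalars_finiteType A _ _
  exact isJacobsonRing_of_finiteType (A := A ⧸ I)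

end Groth.RigFlat65
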