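import Mathlib
import Groth.Agent.RigFlat65.Rig
import Groth.Agent.FlatMorOne.FlatnessCriteria

/-! Flatness at primes: composition, descent and change of base. -/

set_option autoImplicit false

universe u

open TensorProduct

namespace Groth.RigFlat65

/-- `S` is flat over `T` at the prime `q`. -/
def FlatAt (T : Type u) {S : Type u} [CommRing T] [CommRing S] [Algebra T S] (q : PrimeSpectrum S) : Prop :=
  Module.Flat T (Localization.AtPrime q.asIdeal)

theorem flatAt_of_ringHom {T S : Type u} [CommRing T] [CommRing S] [Algebra T S] {q : PrimeSpectrum S}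
    (h : ((algebraMap S (Localization.AtPrime q.asIdeal)).comp (algebraMap T S)).Flat) : FlatAt T q := by
  rw [← IsScalarTower.algebraMap_eq] at h
  exact RingHom.flat_algebraMap_iff.mp h

theorem FlatAt.ringHom {T S : Type u} [CommRing T] [CommRing S] [Algebra T S] {q : PrimeSpectrum S}
    (h : FlatAt T q) : ((algebraMap S (Localization.AtPrime q.asIdeal)).comp (algebraMap T S)).Flat := by
  rw [← IsScalarTower.algebraMap_eq]
  exact RingHom.flat_algebraMap_iff.mpr h

theorem flatAt_of_flat (T : Type u) {S : Type u} [CommRing T] [CommRing S] [Algebra T S] [Module.Flat T S]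
    (q : PrimeSpectrum S) : FlatAt T q :=
  haveI : Module.Flat S (Localization.AtPrime q.asIdeal) := IsLocalization.flat _ q.asIdeal.primeCompl
  Module.Flat.trans T S _

/-- Composition. -/
theorem FlatAt.comp {A B C : Type u} [CommRing A] [CommRing B] [CommRing C] [Algebra A B] [Algebra B C]
    [Algebra A C] [IsScalarTower A B C] {q : PrimeSpectrum C}
    (h1 : FlatAt A (PrimeSpectrum.comap (algebraMap B C) q)) (h2 : FlatAt B q) : FlatAt A q := by
  let p := PrimeSpectrum.comap (algebraMap B C) q
  let Bp := Localization.AtPrime p.asIdeal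
  let Cq := Localization.AtPrime q.asIdeal
  let φ : Bp →+* Cq := Localization.localRingHom p.asIdeal q.asIdeal (algebraMap B C) rfl
  letI : Algebra Bp Cq := φ.toAlgebra
  haveI : IsScalarTower B Bp Cq := IsScalarTower.of_algebraMap_eq fun b => by
    show algebraMap B Cq b = φ (algebraMap B Bp b)
    rw [Localization.localRingHom_to_map, IsScalarTower.algebraMap_apply B C Cq]
  haveI : IsScalarTower A Bp Cq := IsScalarTower.of_algebraMap_eq fun a => by
    rw [IsScalarTower.algebraMap_apply A B Bp, ← IsScalarTower.algebraMap_apply B Bp Cq,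
      IsScalarTower.algebraMap_apply A C Cq, IsScalarTower.algebraMap_apply A B C,
      ← IsScalarTower.algebraMap_apply B C Cq]
  haveI : Module.Flat B Cq := h2
  haveI : Module.Flat Bp Cq := (Module.flat_iff_of_isLocalization Bp p.asIdeal.primeCompl Cq).mpr inferInstance
  haveI : Module.Flat A Bp := h1
  exact Module.Flat.trans A Bp Cq

/-- Descent along a flat map of the rings upstairs. -/
theorem FlatAt.descend {T T' S S' : Type u} [CommRing T] [CommRing T'] [CommRing S] [CommRing S']
    [Algebra T T'] [Algebra T S] [Algebra T S'] [Algebra T' S'] [Algebra S S']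
    [IsScalarTower T T' S'] [IsScalarTower T S S'] [Module.Flat T T'] [Module.Flat S S']
    {q' : PrimeSpectrum S'} {q : PrimeSpectrum S} (hq : q'.asIdeal.comap (algebraMap S S') = q.asIdeal)
    (h : FlatAt T' q') : FlatAt T q := by
  let L' := Localization.AtPrime q'.asIdeal
  let L := Localization.AtPrime q.asIdeal
  let φ : L →+* L' := Localization.localRingHom q.asIdeal q'.asIdeal (algebraMap S S') hq.symm
  letI : Algebra L L' := φ.toAlgebra
  haveI : IsScalarTower S L L' := IsScalarTower.of_algebraMap_eq fun b => by
    show algebraMap S L' b = φ (algebraMap S L b)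
    rw [Localization.localRingHom_to_map, IsScalarTower.algebraMap_apply S S' L']
  haveI : IsScalarTower T L L' := IsScalarTower.of_algebraMap_eq fun a => by
    rw [IsScalarTower.algebraMap_apply T S L, ← IsScalarTower.algebraMap_apply S L L',
      IsScalarTower.algebraMap_apply T S' L', IsScalarTower.algebraMap_apply T S S',
      ← IsScalarTower.algebraMap_apply S S' L']
  haveI : Module.Flat T' L' := h
  haveI : Module.Flat T L' := Module.Flat.trans T T' L'
  haveI : Module.Flat S L' := flatAt_of_flat S q'
  haveI : Module.Flat L L' := (Module.flat_iff_of_isLocalization L q.asIdeal.primeCompl L').mpr inferInstance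
  haveI : IsLocalHom (algebraMap L L') := Localization.isLocalHom_localRingHom q.asIdeal q'.asIdeal (algebraMap S S') hq.symm
  haveI : Module.FaithfullyFlat L L' := Module.FaithfullyFlat.of_flat_of_isLocalHom
  exact Groth.FlatMorOne.flat_of_faithfullyFlat_module (R := T) (T := L) L'

theorem flat_of_map_eq_maximalIdeal {T R M : Type u} [CommRing T] [CommRing R] [IsLocalRing R] [IsNoetherianRing R]
    [Algebra T R] [CommRing M] [IsNoetherianRing M] [IsLocalRing M] [Algebra R M] [IsLocalHom (algebraMap R M)]
    [Algebra T M] [IsScalarTower T R M] [Module.Flat T M] (p : Ideal T)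
    (hp : p.map (algebraMap T R) = IsLocalRing.maximalIdeal R) : Module.Flat R M := by
  set 𝔪 := IsLocalRing.maximalIdeal R with hm
  haveI := Groth.FlatMorOne.flat_residue_quotient R ((R ⧸ 𝔪) ⊗[R] M)
  refine Groth.FlatMorOne.flat_of_rTensor_injective (S := M) 𝔪
    (Groth.FlatMorOne.map_le_jacobson_of_isLocalHom (IsLocalRing.maximalIdeal.isMaximal R).ne_top) ?_
  let ι : p → 𝔪 := fun t => ⟨algebraMap T R t, hp ▸ Ideal.mem_map_of_mem _ t.2⟩
  let g : p ⊗[T] M →ₗ[T] 𝔪 ⊗[R] M :=
    TensorProduct.lift
      { toFun := fun t => ((TensorProduct.mk R 𝔪 M) (ι t)).restrictScalars T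
        map_add' := fun a b => by
          ext m
          show ι (a + b) ⊗ₜ[R] m = ι a ⊗ₜ[R] m + ι b ⊗ₜ[R] m
          rw [← TensorProduct.add_tmul]
          congr 1
          exact Subtype.ext (map_add _ _ _)
        map_smul' := fun r a => by
          ext m
          show ι (r • a) ⊗ₜ[R] m = r • (ι a ⊗ₜ[R] m)
          rw [TensorProduct.smul_tmul']
          congr 1
          refine Subtype.ext ?_
          show algebraMap T R (r * (a : T)) = r • algebraMap T R (a : T)
          rw [map_mul, Algebra.smul_def] }
  have hg : ∀ (t : p) (m : M), g (t ⊗ₜ m) = ι t ⊗ₜ m := fun _ _ => rfl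
  have hsurj : Function.Surjective g := fun z => by
    induction z using TensorProduct.induction_on with
    | zero => exact ⟨0, map_zero g⟩
    | add x y hx hy =>
      obtain ⟨x, rfl⟩ := hx
      obtain ⟨y, rfl⟩ := hy
      exact ⟨x + y, map_add g x y⟩
    | tmul a m =>
      obtain ⟨a, ha⟩ := a
      have ha' : a ∈ Submodule.span R (algebraMap T R '' (p : Set T)) := by rw [← hp] at ha; exact ha
      induction ha' using Submodule.span_induction generalizing m with
      | mem x hx =>
        obtain ⟨t, ht, rfl⟩ := hx
        exact ⟨⟨t, ht⟩ ⊗ₜ m, rfl⟩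
      | zero => exact ⟨0, by rw [map_zero]; exact (TensorProduct.zero_tmul _ m).symm⟩
      | add x y hx hy ihx ihy =>
        obtain ⟨wx, hwx⟩ := ihx m (by rw [← hp]; exact hx)
        obtain ⟨wy, hwy⟩ := ihy m (by rw [← hp]; exact hy)
        exact ⟨wx + wy, by rw [map_add, hwx, hwy, ← TensorProduct.add_tmul]; rfl⟩
      | smul r x hx ih =>
        obtain ⟨w, hw⟩ := ih (r • m) (by rw [← hp]; exact hx)
        exact ⟨w, by rw [hw, TensorProduct.tmul_smul, TensorProduct.smul_tmul']; rfl⟩
  have hcomp : ∀ w : p ⊗[T] M,
      TensorProduct.lid R M (LinearMap.rTensor M 𝔪.subtype (g w)) = TensorProduct.lid T M (LinearMap.rTensor M p.subtype w) := fun w => by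
    induction w using TensorProduct.induction_on with
    | zero => simp
    | add x y hx hy => simp only [map_add, hx, hy]
    | tmul t m =>
      rw [hg, LinearMap.rTensor_tmul, LinearMap.rTensor_tmul, TensorProduct.lid_tmul, TensorProduct.lid_tmul]
      show algebraMap T R t • m = (t : T) • m
      exact IsScalarTower.algebraMap_smul R (t : T) m
  have hinj : Function.Injective fun w : p ⊗[T] M => TensorProduct.lid T M (LinearMap.rTensor M p.subtype w) :=
    (TensorProduct.lid T M).injective.comp
      (Module.Flat.rTensor_preserves_injective_linearMap (M := M) _ Subtype.val_injective)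
  refine (injective_iff_map_eq_zero _).mpr fun z hz => ?_
  obtain ⟨w, rfl⟩ := hsurj z
  have h0 := hcomp w
  rw [hz, map_zero] at h0
  rw [hinj (h0.symm.trans (by simp) : _ = (fun w : p ⊗[T] M => TensorProduct.lid T M (LinearMap.rTensor M p.subtype w)) 0), map_zero]

/-- Change of base when the maximal ideal of the intermediate local ring comes from below. -/
theorem FlatAt.up {T T' S : Type u} [CommRing T] [CommRing T'] [IsNoetherianRing T'] [CommRing S] [IsNoetherianRing S]
    [Algebra T T'] [Algebra T' S] [Algebra T S] [IsScalarTower T T' S] {q : PrimeSpectrum S} {p' : PrimeSpectrum T'}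
    (hp' : PrimeSpectrum.comap (algebraMap T' S) q = p') (p : Ideal T)
    (hmax : (p.map (algebraMap T T')).map (algebraMap T' (Localization.AtPrime p'.asIdeal)) =
      IsLocalRing.maximalIdeal (Localization.AtPrime p'.asIdeal))
    (h : FlatAt T q) : FlatAt T' q := by
  subst hp'
  let p' := PrimeSpectrum.comap (algebraMap T' S) q
  let R := Localization.AtPrime p'.asIdeal
  let M := Localization.AtPrime q.asIdeal
  let φ : R →+* M := Localization.localRingHom p'.asIdeal q.asIdeal (algebraMap T' S) rfl
  letI : Algebra R M := φ.toAlgebra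
  haveI : IsScalarTower T' R M := IsScalarTower.of_algebraMap_eq fun b => by
    show algebraMap T' M b = φ (algebraMap T' R b)
    rw [Localization.localRingHom_to_map, IsScalarTower.algebraMap_apply T' S M]
  haveI : IsScalarTower T R M := IsScalarTower.of_algebraMap_eq fun a => by
    rw [IsScalarTower.algebraMap_apply T T' R, ← IsScalarTower.algebraMap_apply T' R M,
      IsScalarTower.algebraMap_apply T S M, IsScalarTower.algebraMap_apply T T' S,
      ← IsScalarTower.algebraMap_apply T' S M]
  haveI : IsLocalHom (algebraMap R M) := Localization.isLocalHom_localRingHom p'.asIdeal q.asIdeal (algebraMap T' S) rfl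
  haveI : Module.Flat T M := h
  haveI : IsNoetherianRing R := IsLocalization.isNoetherianRing p'.asIdeal.primeCompl _ inferInstance
  haveI : IsNoetherianRing M := IsLocalization.isNoetherianRing q.asIdeal.primeCompl _ inferInstance
  haveI : Module.Flat R M := flat_of_map_eq_maximalIdeal p (by
    rw [← hmax, Ideal.map_map, ← IsScalarTower.algebraMap_eq])
  exact (Module.flat_iff_of_isLocalization R p'.asIdeal.primeCompl M).mp inferInstance

/-- Units modulo a prime with finite residue ring over the base. -/
theorem isUnit_mk_comap {T S : Type u} [CommRing T] [CommRing S] [Algebra T S] (q : Ideal S) [q.IsPrime]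
    [Module.Finite T (S ⧸ q)] {a : T} (ha : IsUnit (Ideal.Quotient.mk q (algebraMap T S a))) :
    IsUnit (Ideal.Quotient.mk (q.comap (algebraMap T S)) a) := by
  by_contra hnu
  obtain ⟨m, hm, ham⟩ := exists_max_ideal_of_mem_nonunits hnu
  haveI := Ideal.comap_isMaximal_of_surjective (Ideal.Quotient.mk (q.comap (algebraMap T S)))
    Ideal.Quotient.mk_surjective (K := m)
  obtain ⟨Q, hQp, hQc⟩ := Ideal.exists_ideal_over_prime_of_isIntegral_of_isDomain (S := S ⧸ q)
    (m.comap (Ideal.Quotient.mk (q.comap (algebraMap T S)))) (fun b hb => by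
      have hb' : algebraMap T S b ∈ q := Ideal.Quotient.eq_zero_iff_mem.mp (RingHom.mem_ker.mp hb)
      rw [Ideal.mem_comap, Ideal.Quotient.eq_zero_iff_mem.mpr (show b ∈ q.comap (algebraMap T S) from hb')]
      exact zero_mem _)
  refine hQp.ne_top (Ideal.eq_top_of_isUnit_mem _ ?_ ha)
  show a ∈ Q.comap (algebraMap T (S ⧸ q))
  rw [hQc]
  exact ham

end Groth.RigFlat65
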