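import Mathlib
import Groth.Agent.RigFlat65.CompLoc
import Groth.Agent.FlatMorOne.LocalCriterion
import Groth.Agent.AdicLinTop.CompletionQuot

/-! Maps out of completed localizations. -/

set_option autoImplicit false

universe u

open TensorProduct

namespace Groth.RigFlat65

/-- The completed localization. -/
abbrev CL {T : Type u} [CommRing T] (J : Ideal T) (f : T) : Type u :=
  AdicCompletion (J.map (algebraMap T (Localization.Away f))) (Localization.Away f)

theorem CL.map_map {T : Type u} [CommRing T] (J : Ideal T) (f : T) :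
    (J.map (algebraMap T (Localization.Away f))).map (algebraMap (Localization.Away f) (CL J f)) =
      J.map (algebraMap T (CL J f)) := by
  rw [Ideal.map_map, ← IsScalarTower.algebraMap_eq]

/-- Universal property of the completed localization. -/
theorem CL.exists_hom {T : Type u} [CommRing T] {J : Ideal T} {f : T} {S : Type u} [CommRing S] {K : Ideal S}
    [IsAdicComplete K S] (φ : T →+* S) (hu : IsUnit (φ f)) (hK : J.map φ ≤ K) :
    ∃ Φ : CL J f →+* S, ∀ a, Φ (algebraMap T (CL J f) a) = φ a := by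
  obtain ⟨F, hF⟩ := Groth.AdicLinTop.CompletionQuot.exists_lift (J.map (algebraMap T (Localization.Away f))) K
    (IsLocalization.Away.lift f hu) (by rw [Ideal.map_map, IsLocalization.Away.lift_comp]; exact hK)
  refine ⟨F, fun a => ?_⟩
  rw [IsScalarTower.algebraMap_apply T (Localization.Away f) (CL J f), ← RingHom.comp_apply, hF,
    IsLocalization.Away.lift_eq]

/-- A map out of a completed localization that commutes with localizations commutes with the base. -/
theorem CL.tower_of_comp {A B : Type u} [CommRing A] [CommRing B] [Algebra A B] {I : Ideal A} {f : A} {J : Ideal B}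
    {g : B} (hg : algebraMap A B f = g) {ψ : CL I f →+* CL J g} {θ : Localization.Away f →+* Localization.Away g}
    (hθ : ∀ a, θ (algebraMap A _ a) = algebraMap B _ (algebraMap A B a))
    (hψ : ψ.comp (algebraMap (Localization.Away f) (CL I f)) = (algebraMap (Localization.Away g) (CL J g)).comp θ)
    (a : A) : ψ (algebraMap A (CL I f) a) = algebraMap B (CL J g) (algebraMap A B a) := by
  rw [IsScalarTower.algebraMap_apply A (Localization.Away f) (CL I f), ← RingHom.comp_apply, hψ, RingHom.comp_apply, hθ,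
    ← IsScalarTower.algebraMap_apply B (Localization.Away g) (CL J g)]

/-- Conversely, commutation with the base gives commutation with localizations. -/
theorem CL.comp_of_tower {A B : Type u} [CommRing A] [CommRing B] [Algebra A B] {I : Ideal A} {f : A} {J : Ideal B}
    {g : B} {ψ : CL I f →+* CL J g} {θ : Localization.Away f →+* Localization.Away g}
    (hθ : ∀ a, θ (algebraMap A _ a) = algebraMap B _ (algebraMap A B a))
    (h : ∀ a, ψ (algebraMap A (CL I f) a) = algebraMap B (CL J g) (algebraMap A B a)) :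
    ψ.comp (algebraMap (Localization.Away f) (CL I f)) = (algebraMap (Localization.Away g) (CL J g)).comp θ := by
  refine IsLocalization.ringHom_ext (Submonoid.powers f) (RingHom.ext fun a => ?_)
  rw [RingHom.comp_apply, RingHom.comp_apply, RingHom.comp_apply, RingHom.comp_apply, hθ,
    ← IsScalarTower.algebraMap_apply A (Localization.Away f) (CL I f), h,
    ← IsScalarTower.algebraMap_apply B (Localization.Away g) (CL J g)]

namespace IsCL

variable {T : Type u} [CommRing T] {J : Ideal T} {f : T} {T' : Type u} [CommRing T'] [Algebra T T']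

theorem tower (h : IsCL J f T') {U S : Type u} [CommRing U] [CommRing S] [Algebra T' U] [Algebra T' S] [Algebra U S]
    [Algebra T U] [Algebra T S] [IsScalarTower T T' U] [IsScalarTower T T' S] [IsScalarTower T U S]
    [IsAdicComplete (J.map (algebraMap T S)) S] : IsScalarTower T' U S := by
  refine IsScalarTower.of_algebraMap_eq' (h.hom_ext (J.map (algebraMap T S)) _ _ (fun a => ?_) ?_)
  · rw [RingHom.comp_apply, ← IsScalarTower.algebraMap_apply T T' U, ← IsScalarTower.algebraMap_apply T U S,
      ← IsScalarTower.algebraMap_apply T T' S]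
  · rw [← IsScalarTower.algebraMap_eq T T' S]

theorem isLocalization_quot (h : IsCL J f T') (n : ℕ) :
    IsLocalization.Away (Ideal.Quotient.mk (J ^ n) f) (T' ⧸ (J ^ n).map (algebraMap T T')) := by
  let Q := T' ⧸ (J ^ n).map (algebraMap T T')
  have hQ : ∀ a, algebraMap (T ⧸ J ^ n) Q (Ideal.Quotient.mk _ a) = Ideal.Quotient.mk _ (algebraMap T T' a) := fun a => rfl
  refine IsLocalization.Away.mk _ (by rw [hQ]; exact h.unit.map _) (fun s => ?_) (fun a b hab => ?_)
  · obtain ⟨x, rfl⟩ := Ideal.Quotient.mk_surjective s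
    obtain ⟨k, a, hka⟩ := h.surj n x
    refine ⟨k, Ideal.Quotient.mk _ a, ?_⟩
    rw [hQ, hQ, ← map_pow, ← map_mul, Ideal.Quotient.eq, mul_comm, Ideal.map_pow]
    exact hka
  · obtain ⟨a, rfl⟩ := Ideal.Quotient.mk_surjective a
    obtain ⟨b, rfl⟩ := Ideal.Quotient.mk_surjective b
    rw [hQ, hQ, Ideal.Quotient.eq, ← map_sub, Ideal.map_pow] at hab
    obtain ⟨k, hk⟩ := h.inj n _ hab
    refine ⟨k, ?_⟩
    rw [← map_pow, ← map_mul, ← map_mul, Ideal.Quotient.eq, ← mul_sub]
    exact hk

/-- A complete algebra over a completed localization which is flat over the base is flat over it. -/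
theorem flat_of_flat_base (h : IsCL J f T') {S : Type u} [CommRing S] [IsNoetherianRing S] [Algebra T' S]
    [Algebra T S] [IsScalarTower T T' S] [Module.Flat T S] [IsAdicComplete (J.map (algebraMap T S)) S] :
    Module.Flat T' S := by
  haveI := h.noeth
  refine Groth.FlatMorOne.flat_of_forall_flat_mod_pow (S := S) (M := S) (J.map (algebraMap T T')) ?_ fun n _ K _ => ?_
  · rw [Ideal.map_map, ← IsScalarTower.algebraMap_eq]
    exact IsAdicComplete.le_jacobson_bot _
  suffices Module.Flat (T' ⧸ (J.map (algebraMap T T')) ^ n) ((T' ⧸ (J.map (algebraMap T T')) ^ n) ⊗[T'] S) from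
    Groth.FlatMorOne.injective_lTensor_of_flat_quotient _ K
  rw [← Ideal.map_pow]
  set J' := (J ^ n).map (algebraMap T T') with hJ'
  set N := S ⧸ (J ^ n).map (algebraMap T S)
  have hle : J' ≤ ((J ^ n).map (algebraMap T S)).comap (algebraMap T' S) := by
    rw [← Ideal.map_le_iff_le_comap, hJ', Ideal.map_map, ← IsScalarTower.algebraMap_eq]
  let h0 : T ⧸ J ^ n →+* N := Ideal.quotientMap _ (algebraMap T S) Ideal.le_comap_map
  let h1 : T' ⧸ J' →+* N := Ideal.quotientMap _ (algebraMap T' S) hle
  refine Groth.AdicLinTop.CompletionQuot.flat_tensor_of_flat J' h1 (Ideal.Quotient.mk ((J ^ n).map (algebraMap T S)))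
    Ideal.Quotient.mk_surjective ?_ (fun r => rfl) ?_
  · rw [Ideal.mk_ker, hJ', Ideal.map_map, ← IsScalarTower.algebraMap_eq]
  have hflat0 : h0.Flat := Groth.AdicLinTop.CompletionQuot.flat_of_flat (J ^ n) h0
    (Ideal.Quotient.mk ((J ^ n).map (algebraMap T S))) Ideal.Quotient.mk_surjective
    (by rw [Ideal.mk_ker]) (fun r => rfl)
  letI : Algebra (T ⧸ J ^ n) N := h0.toAlgebra
  letI : Algebra (T' ⧸ J') N := h1.toAlgebra
  haveI : IsScalarTower (T ⧸ J ^ n) (T' ⧸ J') N := IsScalarTower.of_algebraMap_eq fun a => by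
    obtain ⟨a, rfl⟩ := Ideal.Quotient.mk_surjective a
    show Ideal.Quotient.mk _ (algebraMap T S a) = Ideal.Quotient.mk _ (algebraMap T' S (algebraMap T T' a))
    rw [← IsScalarTower.algebraMap_apply]
  haveI := h.isLocalization_quot n
  haveI : Module.Flat (T ⧸ J ^ n) N := hflat0
  exact (Module.flat_iff_of_isLocalization (T' ⧸ J') (Submonoid.powers (Ideal.Quotient.mk (J ^ n) f)) N).mpr inferInstance

/-- Primes containing the ideal of definition and not the inverted element lift. -/
theorem exists_prime_over (h : IsCL J f T') (Q : Ideal T) [Q.IsPrime] (hJ : J ≤ Q) (hf : f ∉ Q) :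
    ∃ Q' : PrimeSpectrum T', J.map (algebraMap T T') ≤ Q'.asIdeal ∧ Q'.asIdeal.comap (algebraMap T T') = Q := by
  haveI := h.isLocalization_quot 1
  set J' := (J ^ 1).map (algebraMap T T')
  set q := Q.map (Ideal.Quotient.mk (J ^ 1))
  haveI hq : q.IsPrime := Ideal.map_isPrime_of_surjective Ideal.Quotient.mk_surjective (by rw [Ideal.mk_ker, pow_one]; exact hJ)
  have hqc : q.comap (Ideal.Quotient.mk (J ^ 1)) = Q := by
    rw [Ideal.comap_map_of_surjective _ Ideal.Quotient.mk_surjective, ← RingHom.ker_eq_comap_bot, Ideal.mk_ker, pow_one,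
      sup_eq_left.mpr hJ]
  have hdisj : Disjoint (Submonoid.powers (Ideal.Quotient.mk (J ^ 1) f) : Set (T ⧸ J ^ 1)) (q : Set (T ⧸ J ^ 1)) := by
    rw [Ideal.disjoint_powers_iff_notMem _ hq.isRadical]
    intro hfq
    exact hf (hqc ▸ hfq)
  let q' := q.map (algebraMap (T ⧸ J ^ 1) (T' ⧸ J'))
  haveI : q'.IsPrime := IsLocalization.isPrime_of_isPrime_disjoint (Submonoid.powers (Ideal.Quotient.mk (J ^ 1) f)) _ q hq hdisj
  refine ⟨⟨q'.comap (Ideal.Quotient.mk J'), inferInstance⟩, fun x hx => ?_, ?_⟩
  · show Ideal.Quotient.mk J' x ∈ q'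
    rw [Ideal.Quotient.eq_zero_iff_mem.mpr (by rwa [show J' = J.map (algebraMap T T') by simp [J']])]
    exact zero_mem _
  · show (q'.comap (Ideal.Quotient.mk J')).comap (algebraMap T T') = Q
    rw [Ideal.comap_comap, show (Ideal.Quotient.mk J').comp (algebraMap T T') =
      (algebraMap (T ⧸ J ^ 1) (T' ⧸ J')).comp (Ideal.Quotient.mk (J ^ 1)) from rfl, ← Ideal.comap_comap,
      show q'.comap (algebraMap (T ⧸ J ^ 1) (T' ⧸ J')) = q from
        IsLocalization.comap_map_of_isPrime_disjoint (Submonoid.powers (Ideal.Quotient.mk (J ^ 1) f)) _ hq hdisj, hqc]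

/-- Primes containing the ideal of definition are determined by their contraction. -/
theorem le_of_comap_le (h : IsCL J f T') {P Q : Ideal T'} [Q.IsPrime] (hP : J.map (algebraMap T T') ≤ P)
    (hQ : J.map (algebraMap T T') ≤ Q) (hc : P.comap (algebraMap T T') ≤ Q.comap (algebraMap T T')) : P ≤ Q := by
  intro x hx
  obtain ⟨k, a, hka⟩ := h.surj 1 x
  rw [pow_one] at hka
  have ha : algebraMap T T' a ∈ P := by
    simpa using sub_mem (P.mul_mem_left (algebraMap T T' f ^ k) hx) (hP hka)
  have hax : algebraMap T T' f ^ k * x ∈ Q := by simpa using add_mem (hQ hka) (hc ha)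
  exact (Ideal.unit_mul_mem_iff_mem _ (h.unit.pow k)).mp hax

/-- Universal property from the truncations. -/
theorem exists_hom (h : IsCL J f T') {S : Type u} [CommRing S] (K : Ideal S) [IsAdicComplete K S] (φ : T →+* S)
    (hu : IsUnit (φ f)) (hK : J.map φ ≤ K) : ∃ Φ : T' →+* S, ∀ a, Φ (algebraMap T T' a) = φ a := by
  have hle : ∀ n, J ^ n ≤ (K ^ n).comap φ := fun n => by
    rw [← Ideal.map_le_iff_le_comap, Ideal.map_pow]
    exact Ideal.pow_right_mono hK n
  let g : ∀ n, T' →+* S ⧸ K ^ n := fun n =>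
    haveI := h.isLocalization_quot n
    (IsLocalization.Away.lift (S := T' ⧸ (J ^ n).map (algebraMap T T')) (Ideal.Quotient.mk (J ^ n) f)
      (g := Ideal.quotientMap (K ^ n) φ (hle n)) (hu.map (Ideal.Quotient.mk (K ^ n)))).comp
      (Ideal.Quotient.mk ((J ^ n).map (algebraMap T T')))
  have hg : ∀ n a, g n (algebraMap T T' a) = Ideal.Quotient.mk (K ^ n) (φ a) := fun n a => by
    haveI := h.isLocalization_quot n
    show IsLocalization.Away.lift (S := T' ⧸ (J ^ n).map (algebraMap T T')) (Ideal.Quotient.mk (J ^ n) f)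
      (g := Ideal.quotientMap (K ^ n) φ (hle n)) (hu.map (Ideal.Quotient.mk (K ^ n)))
      (algebraMap (T ⧸ J ^ n) (T' ⧸ (J ^ n).map (algebraMap T T')) (Ideal.Quotient.mk (J ^ n) a)) = _
    rw [IsLocalization.Away.lift_eq]
    rfl
  have hc : ∀ {m n : ℕ} (hmn : m ≤ n), (Ideal.Quotient.factorPow K hmn).comp (g n) = g m := by
    intro m n hmn
    haveI : IsHausdorff (K.map (Ideal.Quotient.mk (K ^ m))) (S ⧸ K ^ m) := ⟨fun x hx => by
      have h1 := hx m
      rw [SModEq.zero, smul_eq_mul, Ideal.mul_top, ← Ideal.map_pow, Ideal.map_quotient_self, Submodule.mem_bot] at h1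
      exact h1⟩
    refine h.hom_ext (K.map (Ideal.Quotient.mk (K ^ m))) _ _ (fun a => ?_) ?_
    · rw [RingHom.comp_apply, hg, hg, Ideal.Quotient.factorPow, Ideal.Quotient.factor_mk]
    · rw [show ((Ideal.Quotient.factorPow K hmn).comp (g n)).comp (algebraMap T T') = (Ideal.Quotient.mk (K ^ m)).comp φ from
        RingHom.ext fun a => by
          rw [RingHom.comp_apply, RingHom.comp_apply, hg, Ideal.Quotient.factorPow, Ideal.Quotient.factor_mk,
            RingHom.comp_apply], ← Ideal.map_map]
      exact Ideal.map_mono hK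
  refine ⟨IsAdicComplete.liftRingHom K g hc, fun a => sub_eq_zero.mp (IsHausdorff.haus' (I := K) _ fun n => ?_)⟩
  rw [SModEq.zero, smul_eq_mul, Ideal.mul_top, ← Ideal.Quotient.eq_zero_iff_mem, map_sub,
    IsAdicComplete.mk_liftRingHom, hg, sub_self]

end IsCL

end Groth.RigFlat65
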