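import Mathlib
import Groth.Agent.RigFlat65.Flat
import Groth.Agent.RigFlat65.Congr
import Groth.Agent.AdicLinTop.CompletionQuot
import Groth.Agent.AdicLinTop.Adic

/-! Completed tensor products: finite quotients and flatness at rig-closed points. -/

set_option autoImplicit false

universe u

open TensorProduct

namespace Groth.RigFlat65

theorem completion_hom_ext {P : Type u} [CommRing P] {J : Ideal P} (hJ : J.FG) {S : Type u} [CommRing S] (K : Ideal S)
    [IsHausdorff K S] (φ ψ : AdicCompletion J P →+* S)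
    (heq : ∀ a, φ (algebraMap P _ a) = ψ (algebraMap P _ a))
    (hle : J.map (φ.comp (algebraMap P (AdicCompletion J P))) ≤ K) : φ = ψ := by
  refine RingHom.ext fun x => sub_eq_zero.mp (IsHausdorff.haus' (I := K) _ fun n => ?_)
  rw [SModEq.zero, smul_eq_mul, Ideal.mul_top]
  obtain ⟨a, ha⟩ := Groth.AdicLinTop.CompletionQuot.exists_sub_mem J hJ n x
  have hmem : ∀ χ : AdicCompletion J P →+* S, (∀ a, φ (algebraMap P _ a) = χ (algebraMap P _ a)) →
      χ x - φ (algebraMap P _ a) ∈ K ^ n := fun χ hχ => by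
    have h1 := Ideal.mem_map_of_mem χ ha
    rw [map_sub, ← hχ, Ideal.map_pow, Ideal.map_map,
      show χ.comp (algebraMap P (AdicCompletion J P)) = φ.comp (algebraMap P (AdicCompletion J P)) from
        RingHom.ext fun a => (hχ a).symm] at h1
    exact Ideal.pow_right_mono hle n h1
  have h2 := sub_mem (hmem φ fun _ => rfl) (hmem ψ heq)
  rwa [sub_sub_sub_cancel_right] at h2

theorem finiteType_tensor_quot {A B C : Type u} [CommRing A] [CommRing B] [CommRing C] [Algebra A B] [Algebra A C]
    (I : Ideal A) (hB : Algebra.FiniteType A (B ⧸ I.map (algebraMap A B)))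
    (hC : Algebra.FiniteType A (C ⧸ I.map (algebraMap A C))) :
    Algebra.FiniteType A ((C ⊗[A] B) ⧸ (I.map (algebraMap A C)).map (algebraMap C (C ⊗[A] B))) := by
  let J := (I.map (algebraMap A C)).map (algebraMap C (C ⊗[A] B))
  let B0 := B ⧸ I.map (algebraMap A B)
  let C0 := C ⧸ I.map (algebraMap A C)
  haveI := hB
  haveI := hC
  haveI : Algebra.FiniteType A (C0 ⊗[A] B0) := Algebra.FiniteType.trans hC inferInstance
  have hJ : J = I.map (algebraMap A (C ⊗[A] B)) := map_tower C (C ⊗[A] B) I
  let f : C0 →ₐ[A] (C ⊗[A] B) ⧸ J := Ideal.Quotient.liftₐ _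
    ((Ideal.Quotient.mkₐ A J).comp Algebra.TensorProduct.includeLeft) (fun c hc => by
      exact Ideal.Quotient.eq_zero_iff_mem.mpr (Ideal.mem_map_of_mem _ hc))
  let g : B0 →ₐ[A] (C ⊗[A] B) ⧸ J := Ideal.Quotient.liftₐ _
    ((Ideal.Quotient.mkₐ A J).comp Algebra.TensorProduct.includeRight) (fun b hb => by
      refine Ideal.Quotient.eq_zero_iff_mem.mpr (hJ ▸ ?_)
      have := Ideal.mem_map_of_mem (Algebra.TensorProduct.includeRight : B →ₐ[A] C ⊗[A] B).toRingHom hb
      rwa [Ideal.map_map, AlgHom.toRingHom_eq_coe, AlgHom.comp_algebraMap] at this)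
  refine Algebra.FiniteType.of_surjective (Algebra.TensorProduct.lift f g fun _ _ => Commute.all _ _) fun y => ?_
  obtain ⟨x, rfl⟩ := Ideal.Quotient.mk_surjective y
  induction x using TensorProduct.induction_on with
  | zero => exact ⟨0, by rw [map_zero, map_zero]⟩
  | add x y hx hy =>
    obtain ⟨a, ha⟩ := hx
    obtain ⟨b, hb⟩ := hy
    exact ⟨a + b, by rw [map_add, ha, hb, map_add]⟩
  | tmul c b =>
    refine ⟨Ideal.Quotient.mk _ c ⊗ₜ Ideal.Quotient.mk _ b, ?_⟩
    rw [Algebra.TensorProduct.lift_tmul]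
    show Ideal.Quotient.mk J (c ⊗ₜ (1 : B)) * Ideal.Quotient.mk J ((1 : C) ⊗ₜ b) = _
    rw [← map_mul, Algebra.TensorProduct.tmul_mul_tmul, mul_one, one_mul]

theorem finite_quotient_pow_noeth {A P : Type u} [CommRing A] [CommRing P] [Algebra A P] [IsNoetherianRing P]
    (Q : Ideal P) [Module.Finite A (P ⧸ Q)] (n : ℕ) : Module.Finite A (P ⧸ Q ^ n) := by
  cases n with
  | zero =>
    haveI : Subsingleton (P ⧸ Q ^ 0) := Ideal.Quotient.subsingleton_iff.mpr (by rw [pow_zero, Ideal.one_eq_top])
    infer_instance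
  | succ n =>
    refine Module.finite_of_surjective_of_ker_le_nilradical
      (Ideal.Quotient.factorₐ A (Ideal.pow_le_self (I := Q) n.succ_ne_zero))
      (Ideal.Quotient.factor_surjective (Ideal.pow_le_self (I := Q) n.succ_ne_zero)) (fun x hx => ?_) (IsNoetherian.noetherian _)
    obtain ⟨x, rfl⟩ := Ideal.Quotient.mk_surjective x
    have hxQ : x ∈ Q := Ideal.Quotient.eq_zero_iff_mem.mp hx
    refine ⟨n + 1, ?_⟩
    show Ideal.Quotient.mk (Q ^ (n + 1)) x ^ (n + 1) = 0
    rw [← map_pow, Ideal.Quotient.eq_zero_iff_mem]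
    exact Ideal.pow_mem_pow hxQ _

/-- Flatness of the completed tensor product at a point, from its universal property. -/
theorem flatAt_baseChange {A B C D : Type u} [CommRing A] [CommRing B] [CommRing C] [CommRing D] [IsNoetherianRing A]
    [IsNoetherianRing B] [IsNoetherianRing C] [IsNoetherianRing D] [Algebra A B] [Algebra A C] [Algebra A D] [Algebra B D]
    [Algebra C D] [IsScalarTower A B D] [IsScalarTower A C D] (I : Ideal A)
    [IsAdicComplete (I.map (algebraMap A B)) B] [IsAdicComplete (I.map (algebraMap A D)) D] (q : PrimeSpectrum D)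
    (hfin : Module.Finite A (C ⧸ q.asIdeal.comap (algebraMap C D)))
    (hflat : FlatAt A (PrimeSpectrum.comap (algebraMap B D) q))
    (hlift : ∀ (R : Type u) [CommRing R] [Algebra A R], IsAdicComplete (I.map (algebraMap A R)) R →
      ∀ (u : B →ₐ[A] R) (v : C →ₐ[A] R), ∃ w : D →ₐ[A] R,
        (∀ b, w (algebraMap B D b) = u b) ∧ ∀ c, w (algebraMap C D c) = v c)
    (hext : ∀ (R : Type u) [CommRing R] [Algebra A R], IsAdicComplete (I.map (algebraMap A R)) R →
      ∀ w w' : D →ₐ[A] R, (∀ b, w (algebraMap B D b) = w' (algebraMap B D b)) →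
        (∀ c, w (algebraMap C D c) = w' (algebraMap C D c)) → w = w') :
    FlatAt C q := by
  set pC := q.asIdeal.comap (algebraMap C D) with hpC
  let pB := PrimeSpectrum.comap (algebraMap B D) q
  let L := Localization.AtPrime q.asIdeal
  haveI : IsNoetherianRing L := IsLocalization.isNoetherianRing q.asIdeal.primeCompl _ inferInstance
  have hjac : pC.map (algebraMap C L) ≤ Ideal.jacobson ⊥ := by
    rw [IsLocalRing.jacobson_eq_maximalIdeal _ bot_ne_top, ← Localization.AtPrime.map_eq_maximalIdeal,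
      IsScalarTower.algebraMap_eq C D L, ← Ideal.map_map]
    exact Ideal.map_mono Ideal.map_comap_le
  refine Groth.FlatMorOne.flat_of_forall_flat_mod_pow (S := L) (M := L) pC hjac fun k _ J _ => ?_
  suffices Module.Flat (C ⧸ pC ^ k) ((C ⧸ pC ^ k) ⊗[C] L) from Groth.FlatMorOne.injective_lTensor_of_flat_quotient _ J
  haveI := finite_quotient_pow_noeth (A := A) pC k
  let M := C ⧸ pC ^ k
  let R := B ⊗[A] M
  let KD := (pC ^ k).map (algebraMap C D)
  let Q := D ⧸ KD
  -- completeness
  haveI : IsAdicComplete (I.map (algebraMap A D)) Q := Groth.AdicLinTop.Adic.isAdicComplete_of_finite (A := D)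
  haveI hQA : IsAdicComplete I Q := (IsAdicComplete.map_algebraMap_iff (S := D) (I := I) Q).mp inferInstance
  haveI hQ : IsAdicComplete (I.map (algebraMap A Q)) Q := (IsAdicComplete.map_algebraMap_iff (S := Q) (I := I) Q).mpr hQA
  haveI : IsAdicComplete (I.map (algebraMap A B)) R := Groth.AdicLinTop.Adic.isAdicComplete_of_finite (A := B)
  haveI hRA : IsAdicComplete I R := (IsAdicComplete.map_algebraMap_iff (S := B) (I := I) R).mp inferInstance
  haveI hR : IsAdicComplete (I.map (algebraMap A R)) R := (IsAdicComplete.map_algebraMap_iff (S := R) (I := I) R).mpr hRA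
  -- the comparison map
  let fB : B →ₐ[A] Q := (Ideal.Quotient.mkₐ A KD).comp (IsScalarTower.toAlgHom A B D)
  let fM : M →ₐ[A] Q := Ideal.quotientMapₐ KD (IsScalarTower.toAlgHom A C D) Ideal.le_comap_map
  let β : R →ₐ[A] Q := Algebra.TensorProduct.lift fB fM fun _ _ => Commute.all _ _
  obtain ⟨γ, hγB, hγC⟩ := hlift R hR Algebra.TensorProduct.includeLeft
    (Algebra.TensorProduct.includeRight.comp (Ideal.Quotient.mkₐ A (pC ^ k)))
  have hKD : ∀ x ∈ KD, γ x = 0 := fun x hx => by
    have : KD ≤ RingHom.ker γ := Ideal.map_le_iff_le_comap.mpr fun c hc => by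
      rw [Ideal.mem_comap, RingHom.mem_ker, hγC]
      show (1 : B) ⊗ₜ[A] Ideal.Quotient.mk (pC ^ k) c = 0
      rw [Ideal.Quotient.eq_zero_iff_mem.mpr hc, TensorProduct.tmul_zero]
    exact this hx
  let γQ : Q →ₐ[A] R := Ideal.Quotient.liftₐ KD γ hKD
  have hβγ : β.comp γ = Ideal.Quotient.mkₐ A KD := hext Q hQ _ _
    (fun b => by
      rw [AlgHom.comp_apply, hγB, Algebra.TensorProduct.includeLeft_apply, Algebra.TensorProduct.lift_tmul, map_one, mul_one]
      rfl)
    (fun c => by
      rw [AlgHom.comp_apply, hγC, AlgHom.comp_apply, Algebra.TensorProduct.includeRight_apply,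
        Algebra.TensorProduct.lift_tmul, map_one, one_mul]
      rfl)
  have hβγQ : ∀ y, β (γQ y) = y := fun y => by
    obtain ⟨y, rfl⟩ := Ideal.Quotient.mk_surjective y
    exact AlgHom.congr_fun hβγ y
  have hγβ : γQ.comp β = AlgHom.id A R := Algebra.TensorProduct.ext
    (AlgHom.ext fun b => by
      show γQ (β (b ⊗ₜ 1)) = b ⊗ₜ (1 : M)
      rw [Algebra.TensorProduct.lift_tmul, map_one, mul_one]
      exact hγB b)
    (AlgHom.ext fun m => by
      obtain ⟨c, rfl⟩ := Ideal.Quotient.mk_surjective m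
      show γQ (β ((1 : B) ⊗ₜ Ideal.Quotient.mk _ c)) = (1 : B) ⊗ₜ Ideal.Quotient.mk (pC ^ k) c
      rw [Algebra.TensorProduct.lift_tmul, map_one, one_mul]
      exact hγC c)
  have hβ : Function.Bijective β :=
    ⟨Function.LeftInverse.injective (g := γQ) (AlgHom.congr_fun hγβ), fun y => ⟨γQ y, hβγQ y⟩⟩
  -- the localization
  let KL := KD.map (algebraMap D L)
  let N := L ⧸ KL
  let φ : Q →+* N := Ideal.quotientMap KL (algebraMap D L) Ideal.le_comap_map
  haveI : Module.Flat D L := IsLocalization.flat _ q.asIdeal.primeCompl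
  have hφ : φ.Flat := Groth.AdicLinTop.CompletionQuot.flat_of_flat KD φ (Ideal.Quotient.mk KL)
    Ideal.Quotient.mk_surjective (by rw [Ideal.mk_ker]) (fun r => rfl)
  let θ : R →+* N := φ.comp β.toRingHom
  have hθ : θ.Flat := RingHom.Flat.comp (RingHom.Flat.of_bijective hβ) hφ
  -- factor through the local ring of B
  let Bp := Localization.AtPrime pB.asIdeal
  let lB : Bp →+* L := Localization.localRingHom pB.asIdeal q.asIdeal (algebraMap B D) rfl
  let gB : Bp →ₐ[A] N := { (Ideal.Quotient.mk KL).comp lB with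
    commutes' := fun a => by
      show Ideal.Quotient.mk KL (lB (algebraMap A Bp a)) = Ideal.Quotient.mk KL (algebraMap A L a)
      rw [IsScalarTower.algebraMap_apply A B Bp, Localization.localRingHom_to_map, ← IsScalarTower.algebraMap_apply A B D,
        ← IsScalarTower.algebraMap_apply A D L] }
  let gM : M →ₐ[A] N := { φ.comp fM.toRingHom with
    commutes' := fun a => by
      show φ (fM (algebraMap A M a)) = _
      rw [AlgHom.commutes]
      show Ideal.Quotient.mk KL (algebraMap D L (algebraMap A D a)) = Ideal.Quotient.mk KL (algebraMap A L a)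
      rw [← IsScalarTower.algebraMap_apply A D L] }
  let R' := Bp ⊗[A] M
  let ι : R →ₐ[A] R' := Algebra.TensorProduct.map (IsScalarTower.toAlgHom A B Bp) (AlgHom.id A M)
  let Θ : R' →ₐ[A] N := Algebra.TensorProduct.lift gB gM fun _ _ => Commute.all _ _
  have hΘι : ∀ z, Θ (ι z) = θ z := fun z => by
    induction z using TensorProduct.induction_on with
    | zero => rw [map_zero, map_zero, map_zero]
    | add x y hx hy => rw [map_add, map_add, map_add, hx, hy]
    | tmul b m =>
      rw [Algebra.TensorProduct.map_tmul, Algebra.TensorProduct.lift_tmul]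
      show Ideal.Quotient.mk KL (lB (algebraMap B Bp b)) * φ (fM m) = φ (β (b ⊗ₜ m))
      rw [Algebra.TensorProduct.lift_tmul, map_mul φ, Localization.localRingHom_to_map]
      rfl
  letI : Algebra R R' := ι.toRingHom.toAlgebra
  letI : Algebra R N := θ.toAlgebra
  letI : Algebra R' N := Θ.toRingHom.toAlgebra
  haveI : IsScalarTower R R' N := IsScalarTower.of_algebraMap_eq fun z => (hΘι z).symm
  haveI : IsLocalization (Algebra.algebraMapSubmonoid R pB.asIdeal.primeCompl) R' := by
    letI : Algebra R (Bp ⊗[B] R) := Algebra.TensorProduct.rightAlgebra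
    haveI : IsLocalization (Algebra.algebraMapSubmonoid R pB.asIdeal.primeCompl) (Bp ⊗[B] R) :=
      IsLocalization.tensorRight Bp pB.asIdeal.primeCompl
    refine @IsLocalization.isLocalization_of_algEquiv R _ (Algebra.algebraMapSubmonoid R pB.asIdeal.primeCompl) (Bp ⊗[B] R) _ _ R' _ _ inferInstance (AlgEquiv.ofRingEquiv
      (f := (Algebra.TensorProduct.cancelBaseChange A B Bp Bp M).toRingEquiv) (fun z => ?_))
    show Algebra.TensorProduct.cancelBaseChange A B Bp Bp M ((1 : Bp) ⊗ₜ z) = ι z
    induction z using TensorProduct.induction_on with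
    | zero => rw [TensorProduct.tmul_zero, map_zero, map_zero]
    | add x y hx hy => rw [TensorProduct.tmul_add, map_add, hx, hy, map_add]
    | tmul b m =>
      rw [Algebra.TensorProduct.cancelBaseChange_tmul, Algebra.TensorProduct.map_tmul, Algebra.smul_def, mul_one]
      rfl
  haveI : Module.Flat R N := hθ
  haveI : Module.Flat R' N := (Module.flat_iff_of_isLocalization R' (Algebra.algebraMapSubmonoid R pB.asIdeal.primeCompl) N).mpr inferInstance
  haveI : Module.Flat A Bp := hflat
  have hM : ((Algebra.TensorProduct.includeRight : M →ₐ[A] R').toRingHom).Flat := by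
    have h1 : (algebraMap M (M ⊗[A] Bp)).Flat := RingHom.flat_algebraMap_iff.mpr inferInstance
    have h2 : (Algebra.TensorProduct.includeRight : M →ₐ[A] R').toRingHom =
        (Algebra.TensorProduct.comm A M Bp).toRingEquiv.toRingHom.comp (algebraMap M (M ⊗[A] Bp)) :=
      RingHom.ext fun m => (Algebra.TensorProduct.comm_tmul A m (1 : Bp)).symm
    rw [h2]
    exact RingHom.Flat.comp h1 (RingHom.Flat.of_bijective (Algebra.TensorProduct.comm A M Bp).bijective)
  let h : M →+* N := Θ.toRingHom.comp (Algebra.TensorProduct.includeRight : M →ₐ[A] R').toRingHom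
  have hh : h.Flat := RingHom.Flat.comp hM (show Θ.toRingHom.Flat from ‹Module.Flat R' N›)
  refine Groth.AdicLinTop.CompletionQuot.flat_tensor_of_flat (pC ^ k) h (Ideal.Quotient.mk KL)
    Ideal.Quotient.mk_surjective ?_ (fun c => ?_) hh
  · rw [Ideal.mk_ker]
    show ((pC ^ k).map (algebraMap C D)).map (algebraMap D L) ≤ _
    rw [Ideal.map_map, ← IsScalarTower.algebraMap_eq]
  · show _ = Θ ((1 : Bp) ⊗ₜ Ideal.Quotient.mk (pC ^ k) c)
    rw [Algebra.TensorProduct.lift_tmul, map_one, one_mul, IsScalarTower.algebraMap_apply C D L]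
    rfl

end Groth.RigFlat65
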