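import Mathlib
import Groth.Agent.RigFlat65.Tensor
import Groth.Agent.RigFlat65.Hom

/-! Base change to completed tensor products of completed localizations. -/

set_option autoImplicit false

universe u

open TensorProduct

namespace Groth.RigFlat65

variable {A : Type u} [CommRing A] (I : Ideal A)

/-- The completed tensor product. -/
abbrev CT {A : Type u} [CommRing A] (I : Ideal A) (C B : Type u) [CommRing C] [CommRing B] [Algebra A C] [Algebra A B] :
    Type u :=
  AdicCompletion ((I.map (algebraMap A C)).map (algebraMap C (C ⊗[A] B))) (C ⊗[A] B)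

variable (C B : Type u) [CommRing C] [CommRing B] [Algebra A C] [Algebra A B]

/-- The second structure map of the completed tensor product. -/
noncomputable abbrev CT.inclB : Algebra B (CT I C B) :=
  ((algebraMap (C ⊗[A] B) (CT I C B)).comp (Algebra.TensorProduct.includeRight : B →ₐ[A] C ⊗[A] B).toRingHom).toAlgebra

theorem CT.map_eq : (I.map (algebraMap A C)).map (algebraMap C (C ⊗[A] B)) = I.map (algebraMap A (C ⊗[A] B)) :=
  map_tower C (C ⊗[A] B) I

theorem CT.lift {R : Type u} [CommRing R] [Algebra A R] [IsAdicComplete (I.map (algebraMap A R)) R]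
    (u : B →ₐ[A] R) (v : C →ₐ[A] R) :
    ∃ F : CT I C B →+* R, (∀ c, F (algebraMap C _ c) = v c) ∧
      (∀ b, F (algebraMap (C ⊗[A] B) _ ((1 : C) ⊗ₜ b)) = u b) ∧ ∀ a, F (algebraMap A _ a) = algebraMap A R a := by
  let ρ : C ⊗[A] B →ₐ[A] R := Algebra.TensorProduct.lift v u fun _ _ => Commute.all _ _
  obtain ⟨F, hF⟩ := Groth.AdicLinTop.CompletionQuot.exists_lift ((I.map (algebraMap A C)).map (algebraMap C (C ⊗[A] B)))
    (I.map (algebraMap A R)) ρ.toRingHom (by
      rw [CT.map_eq, Ideal.map_map, AlgHom.toRingHom_eq_coe, AlgHom.comp_algebraMap])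
  refine ⟨F, fun c => ?_, fun b => ?_, fun a => ?_⟩
  · show F (algebraMap (C ⊗[A] B) _ (c ⊗ₜ (1 : B))) = _
    rw [← RingHom.comp_apply, hF]
    show ρ (c ⊗ₜ (1 : B)) = _
    rw [Algebra.TensorProduct.lift_tmul, map_one, mul_one]
  · rw [← RingHom.comp_apply, hF]
    show ρ ((1 : C) ⊗ₜ b) = _
    rw [Algebra.TensorProduct.lift_tmul, map_one, one_mul]
  · rw [IsScalarTower.algebraMap_apply A (C ⊗[A] B) (CT I C B), ← RingHom.comp_apply, hF]
    exact ρ.commutes a

theorem CT.ext [IsNoetherianRing A] {R : Type u} [CommRing R] [Algebra A R] [IsAdicComplete (I.map (algebraMap A R)) R]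
    (φ φ' : CT I C B →+* R) (hA : ∀ a, φ (algebraMap A _ a) = algebraMap A R a)
    (hC : ∀ c, φ (algebraMap C _ c) = φ' (algebraMap C _ c))
    (hB : ∀ b, φ (algebraMap (C ⊗[A] B) _ ((1 : C) ⊗ₜ b)) = φ' (algebraMap (C ⊗[A] B) _ ((1 : C) ⊗ₜ b))) : φ = φ' := by
  have hfg : ((I.map (algebraMap A C)).map (algebraMap C (C ⊗[A] B))).FG :=
    Ideal.FG.map (Ideal.FG.map (IsNoetherian.noetherian I) _) _
  refine completion_hom_ext hfg (I.map (algebraMap A R)) φ φ' (fun x => ?_) ?_
  · induction x using TensorProduct.induction_on with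
    | zero => simp
    | add x y hx hy => simp only [map_add, hx, hy]
    | tmul c b =>
      rw [show c ⊗ₜ[A] b = (c ⊗ₜ[A] (1 : B)) * ((1 : C) ⊗ₜ[A] b) by
        rw [Algebra.TensorProduct.tmul_mul_tmul, mul_one, one_mul]]
      simp only [map_mul]
      rw [hB]
      congr 1
      exact hC c
  · refine le_trans (Ideal.map_mono (CT.map_eq I C B).le) ?_
    rw [Ideal.map_map, RingHom.comp_assoc, ← IsScalarTower.algebraMap_eq A (C ⊗[A] B) (CT I C B),
      show φ.comp (algebraMap A (CT I C B)) = algebraMap A R from RingHom.ext hA]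

/-- The universal property of a completed tensor product. -/
structure IsCT (D : Type u) [CommRing D] [Algebra A D] [Algebra B D] [Algebra C D] : Prop where
  lift : ∀ (R : Type u) [CommRing R] [Algebra A R], IsAdicComplete (I.map (algebraMap A R)) R →
    ∀ (u : B →ₐ[A] R) (v : C →ₐ[A] R), ∃ F : D →+* R, (∀ c, F (algebraMap C D c) = v c) ∧
      (∀ b, F (algebraMap B D b) = u b) ∧ ∀ a, F (algebraMap A D a) = algebraMap A R a
  ext : ∀ (R : Type u) [CommRing R] [Algebra A R], IsAdicComplete (I.map (algebraMap A R)) R →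
    ∀ φ φ' : D →+* R, (∀ a, φ (algebraMap A D a) = algebraMap A R a) →
      (∀ c, φ (algebraMap C D c) = φ' (algebraMap C D c)) → (∀ b, φ (algebraMap B D b) = φ' (algebraMap B D b)) → φ = φ'

theorem CT.isCT [IsNoetherianRing A] [Algebra B (CT I C B)]
    (hinc : ∀ b, algebraMap B (CT I C B) b = algebraMap (C ⊗[A] B) _ ((1 : C) ⊗ₜ b)) : IsCT I C B (CT I C B) :=
  ⟨fun R _ _ hR u v => by
      haveI := hR
      obtain ⟨F, hC, hB, hA⟩ := CT.lift I C B u v
      exact ⟨F, hC, fun b => by rw [hinc]; exact hB b, hA⟩,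
    fun R _ _ hR φ φ' hA hC hB => by
      haveI := hR
      exact CT.ext I C B φ φ' hA hC (fun b => by rw [← hinc]; exact hB b)⟩

variable [IsNoetherianRing A] {D : Type u} [CommRing D] [Algebra A D] [Algebra B D] [Algebra C D] [IsScalarTower A C D]

/-- Flatness at a point of a completed localization of the completed tensor product. -/
theorem flatAt_cl_baseChange
    (hCT : IsCT I C B D)
    {g : A} {gB : B} {gC : C}
    {A2 B2 C2 D2 : Type u} [CommRing A2] [CommRing B2] [CommRing C2] [CommRing D2]
    [IsNoetherianRing A2] [IsNoetherianRing B2] [IsNoetherianRing C2] [IsNoetherianRing D2]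
    [Algebra A A2] [Algebra B B2] [Algebra C C2] [Algebra D D2]
    [Algebra A B2] [IsScalarTower A B B2] [Algebra A C2] [IsScalarTower A C C2]
    [Algebra A D2] [IsScalarTower A D D2] [Algebra B D2] [IsScalarTower B D D2]
    [Algebra C D2] [IsScalarTower C D D2]
    [Algebra A2 B2] [IsScalarTower A A2 B2] [Algebra A2 C2] [IsScalarTower A A2 C2] [Algebra A2 D2] [IsScalarTower A A2 D2]
    [Algebra B2 D2] [IsScalarTower B B2 D2] [IsScalarTower A2 B2 D2]
    [Algebra C2 D2] [IsScalarTower C C2 D2] [IsScalarTower A2 C2 D2]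
    (hA2 : IsCL I g A2) (hB2 : IsCL (I.map (algebraMap A B)) gB B2) (hC2 : IsCL (I.map (algebraMap A C)) gC C2)
    (hD2 : IsCL ((I.map (algebraMap A C)).map (algebraMap C D)) (algebraMap C _ gC) D2)
    (huniv : ∀ (R : Type u) [CommRing R] (K : Ideal R), IsAdicComplete K R → ∀ φ : D →+* R,
      IsUnit (φ (algebraMap C _ gC)) → ((I.map (algebraMap A C)).map (algebraMap C D)).map φ ≤ K →
        ∃ Φ : D2 →+* R, ∀ x, Φ (algebraMap D D2 x) = φ x)
    [IsAdicComplete ((I.map (algebraMap A A2)).map (algebraMap A2 B2)) B2]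
    [IsAdicComplete ((I.map (algebraMap A A2)).map (algebraMap A2 D2)) D2]
    (q : PrimeSpectrum D2)
    (hfin : Module.Finite A2 (C2 ⧸ q.asIdeal.comap (algebraMap C2 D2)))
    (hflat : FlatAt A2 (PrimeSpectrum.comap (algebraMap B2 D2) q)) : FlatAt C2 q := by
  refine flatAt_baseChange (I.map (algebraMap A A2)) q hfin hflat ?_ ?_
  · intro R _ _ hR u v
    letI : Algebra A R := ((algebraMap A2 R).comp (algebraMap A A2)).toAlgebra
    haveI : IsScalarTower A A2 R := IsScalarTower.of_algebraMap_eq fun a => rfl
    haveI hRA : IsAdicComplete (I.map (algebraMap A R)) R := complete_congr (map_tower A2 R I) hR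
    obtain ⟨F, hFC, hFB, hFA⟩ := hCT.lift R hRA ((u.restrictScalars A).comp (IsScalarTower.toAlgHom A B B2))
      ((v.restrictScalars A).comp (IsScalarTower.toAlgHom A C C2))
    have hFB' : ∀ b, F (algebraMap B D b) = u (algebraMap B B2 b) := fun b => by
      exact hFB b
    obtain ⟨w, hw⟩ := huniv R (I.map (algebraMap A R)) hRA F (by rw [hFC]; exact (hC2.unit.map v))
      (by
        rw [map_tower C D I, Ideal.map_map, show F.comp (algebraMap A D) = algebraMap A R from
          RingHom.ext hFA])
    have hwA' : ∀ a, w (algebraMap A D2 a) = algebraMap A R a := fun a => by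
      rw [IsScalarTower.algebraMap_apply A D D2, hw, hFA]
    have hwA : w.comp (algebraMap A2 D2) = algebraMap A2 R :=
      hA2.hom_ext (I.map (algebraMap A R)) _ _ (fun a => by
        rw [RingHom.comp_apply, ← IsScalarTower.algebraMap_apply A A2 D2, hwA', ← IsScalarTower.algebraMap_apply A A2 R])
        (by
          rw [RingHom.comp_assoc, ← IsScalarTower.algebraMap_eq A A2 D2,
            show w.comp (algebraMap A D2) = algebraMap A R from RingHom.ext hwA'])
    have hwB0 : ∀ b, w (algebraMap B2 D2 (algebraMap B B2 b)) = u (algebraMap B B2 b) := fun b => by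
      rw [← IsScalarTower.algebraMap_apply B B2 D2, IsScalarTower.algebraMap_apply B D D2, hw, hFB']
    have hwC0 : ∀ c, w (algebraMap C2 D2 (algebraMap C C2 c)) = v (algebraMap C C2 c) := fun c => by
      rw [← IsScalarTower.algebraMap_apply C C2 D2, IsScalarTower.algebraMap_apply C D D2, hw, hFC]
      rfl
    have hwB : w.comp (algebraMap B2 D2) = u.toRingHom :=
      hB2.hom_ext (I.map (algebraMap A R)) _ _ (fun b => hwB0 b) (by
        rw [Ideal.map_map, show ((w.comp (algebraMap B2 D2)).comp (algebraMap B B2)).comp (algebraMap A B) =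
          algebraMap A R from RingHom.ext fun a => by
            rw [RingHom.comp_apply, RingHom.comp_apply, RingHom.comp_apply, hwB0,
              ← IsScalarTower.algebraMap_apply A B B2]
            exact (u.restrictScalars A).commutes a])
    have hwC : w.comp (algebraMap C2 D2) = v.toRingHom :=
      hC2.hom_ext (I.map (algebraMap A R)) _ _ (fun c => hwC0 c) (by
        rw [Ideal.map_map, show ((w.comp (algebraMap C2 D2)).comp (algebraMap C C2)).comp (algebraMap A C) =
          algebraMap A R from RingHom.ext fun a => by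
            rw [RingHom.comp_apply, RingHom.comp_apply, RingHom.comp_apply, hwC0,
              ← IsScalarTower.algebraMap_apply A C C2]
            exact (v.restrictScalars A).commutes a])
    exact ⟨{ w with commutes' := fun a => RingHom.congr_fun hwA a },
      fun b => RingHom.congr_fun hwB b, fun c => RingHom.congr_fun hwC c⟩
  · intro R _ _ hR w w' hB hC
    letI : Algebra A R := ((algebraMap A2 R).comp (algebraMap A A2)).toAlgebra
    haveI : IsScalarTower A A2 R := IsScalarTower.of_algebraMap_eq fun a => rfl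
    haveI hRA : IsAdicComplete (I.map (algebraMap A R)) R := complete_congr (map_tower A2 R I) hR
    let φ : D →+* R := w.toRingHom.comp (algebraMap D D2)
    let φ' : D →+* R := w'.toRingHom.comp (algebraMap D D2)
    have hφA : ∀ a, φ (algebraMap A D a) = algebraMap A R a := fun a => by
      show w (algebraMap D D2 (algebraMap A D a)) = _
      rw [← IsScalarTower.algebraMap_apply A D D2, IsScalarTower.algebraMap_apply A A2 D2, AlgHom.commutes,
        ← IsScalarTower.algebraMap_apply]
    have hφ : φ = φ' := hCT.ext R hRA φ φ' hφA (fun c => by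
        show w (algebraMap D D2 (algebraMap C _ c)) = w' (algebraMap D D2 (algebraMap C _ c))
        rw [← IsScalarTower.algebraMap_apply, IsScalarTower.algebraMap_apply C C2 D2]
        exact hC _) (fun b => by
        show w (algebraMap D D2 _) = w' (algebraMap D D2 _)
        rw [← IsScalarTower.algebraMap_apply, IsScalarTower.algebraMap_apply B B2 D2]
        exact hB _)
    have hww : w.toRingHom = w'.toRingHom := hD2.hom_ext (I.map (algebraMap A R)) _ _ (RingHom.congr_fun hφ) (by
      rw [map_tower C D I, Ideal.map_map]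
      exact le_of_eq (congrArg (fun f => Ideal.map f I) (RingHom.ext hφA)))
    exact AlgHom.ext (RingHom.congr_fun hww)

end Groth.RigFlat65
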