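import Mathlib
import Groth.Agent.RigFlat65.Flat
import Groth.Agent.RigFlat65.Hom
import Groth.Agent.RigFlat65.Congr
import Groth.Agent.RigFlat65.TensorCL

/-! Rig-flatness after base change to a completed tensor product, abstractly. -/

set_option autoImplicit false

universe u

open TensorProduct

namespace Groth.RigFlat65

theorem rigFlat_baseChange_point (A : Type u) [CommRing A] [IsNoetherianRing A] (I : Ideal A) [IsAdicComplete I A] (B : Type u) [CommRing B] [Algebra A B] [IsNoetherianRing B] [IsAdicComplete (I.map (algebraMap A B)) B] (hft : Algebra.FiniteType A (B ⧸ (I.map (algebraMap A B)))) (hAB : (∀ f : A, ∀ ψf : (AdicCompletion (I.map (algebraMap A (Localization.Away f))) (Localization.Away f)) →+* (AdicCompletion ((I.map (algebraMap A B)).map (algebraMap B (Localization.Away (algebraMap A B f)))) (Localization.Away (algebraMap A B f))), ψf.comp (algebraMap (Localization.Away f) (AdicCompletion (I.map (algebraMap A (Localization.Away f))) (Localization.Away f))) = (algebraMap (Localization.Away (algebraMap A B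 f)) (AdicCompletion ((I.map (algebraMap A B)).map (algebraMap B (Localization.Away (algebraMap A B f)))) (Localization.Away (algebraMap A B f)))).comp (Localization.awayMap (algebraMap A B) f) → ∀ qf : PrimeSpectrum (AdicCompletion ((I.map (algebraMap A B)).map (algebraMap B (Localization.Away (algebraMap A B f)))) (Localization.Away (algebraMap A B f))), (¬ (((I.map (algebraMap A B)).map (algebraMap B (Localization.Away (algebraMap A B f)))).map (algebraMap (Localization.Away (algebraMap A B f)) (AdicCompletion ((I.map (algebraMap A B)).map (algebraMap B (Localization.Away (algebraMap A B f)))) (Localization.Away (algebraMap A B f))))) ≤ qf.asIdeal ∧ ∀ y : PrimeSpectrum (AdicCompletion ((I.map (algebraMap A B)).map (algebraMap B (Localization.Away (algebraMap A B f)))) (Localization.Away (algebraMap A B f))), qf ≤ y → ¬ (((I.map (algebraMap A B)).map (algebraMap B (Localization.Away (algebraMap A B f)))).map (algebraMap (Localization.Away (algebraMap A B f)) (AdicCompletion ((I.map (algebraMap A B)).map (algebraMap B (Localization.Away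 (algebraMap A B f)))) (Localization.Away (algebraMap A B f))))) ≤ y.asIdeal → y = qf) → ((algebraMap (AdicCompletion ((I.map (algebraMap A B)).map (algebraMap B (Localization.Away (algebraMap A B f)))) (Localization.Away (algebraMap A B f))) (Localization.AtPrime qf.asIdeal)).comp ψf).Flat)) (C : Type u) [CommRing C] [Algebra A C] [IsNoetherianRing C] [IsAdicComplete (I.map (algebraMap A C)) C] (hftC : Algebra.FiniteType A (C ⧸ (I.map (algebraMap A C))))
    (D : Type u) [CommRing D] [IsNoetherianRing D] [Algebra A D] [Algebra B D] [Algebra C D] [IsScalarTower A C D]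
    [IsScalarTower A B D] [IsAdicComplete ((I.map (algebraMap A C)).map (algebraMap C D)) D]
    (hftD : Algebra.FiniteType A (D ⧸ (I.map (algebraMap A C)).map (algebraMap C D)))
    (hCT : IsCT I C B D) (h : C)
    (D1 : Type u) [CommRing D1] [Algebra A D1] [Algebra C D1] [Algebra D D1] [IsScalarTower A D D1] [IsScalarTower C D D1]
    (ψh : CL (I.map (algebraMap A C)) h →+* D1)
    (qh : PrimeSpectrum D1)
    (hclD1 : IsCL ((I.map (algebraMap A C)).map (algebraMap C D)) (algebraMap C D h) D1)
    (hc : ∀ c, ψh (algebraMap C (CL (I.map (algebraMap A C)) h) c) = algebraMap D D1 (algebraMap C D c))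
    {L : Type u} [CommRing L] [Algebra D L] [Algebra L D1] [IsScalarTower D L D1]
    (hqh : ¬ ((((I.map (algebraMap A C)).map (algebraMap C D)).map (algebraMap D L)).map (algebraMap L D1)) ≤ qh.asIdeal ∧
      ∀ y : PrimeSpectrum D1, qh ≤ y →
        ¬ ((((I.map (algebraMap A C)).map (algebraMap C D)).map (algebraMap D L)).map (algebraMap L D1)) ≤ y.asIdeal → y = qh) :
    ((algebraMap D1 (Localization.AtPrime qh.asIdeal)).comp ψh).Flat := by
  let JC := I.map (algebraMap A C)
  have hJD' : JC.map (algebraMap C D) = I.map (algebraMap A D) := Groth.RigFlat65.map_tower C D I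
  let C1 := Groth.RigFlat65.CL JC h
  have hclC1 := Groth.RigFlat65.isCL_completion JC h
  haveI : IsScalarTower A C C1 := IsScalarTower.of_algebraMap_eq fun a => rfl
  haveI : IsNoetherianRing C1 := hclC1.noeth
  haveI : IsNoetherianRing D1 := hclD1.noeth
  have hJ1 : (JC.map (algebraMap C D)).map (algebraMap D D1) = I.map (algebraMap A D1) :=
    (congrArg (Ideal.map (algebraMap D D1)) hJD').trans (Groth.RigFlat65.map_tower D D1 I)
  haveI hD1c : IsAdicComplete (I.map (algebraMap A D1)) D1 := Groth.RigFlat65.complete_congr hJ1 hclD1.complete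
  have hftD1 : Algebra.FiniteType A (D1 ⧸ I.map (algebraMap A D1)) :=
    Groth.RigFlat65.finiteType_congr hJ1 (hclD1.finiteType (hT := hftD))
  obtain ⟨g, hg, href⟩ := Groth.RigFlat65.refine_point (A := A) (S := D1) I rfl hftD1
    (Groth.RigFlat65.rig_congr ((Groth.RigFlat65.map_tower L D1 _).trans hJ1) hqh)
  -- the refined completed localizations
  let A2 := Groth.RigFlat65.CL I g
  let B2 := Groth.RigFlat65.CL (I.map (algebraMap A B)) (algebraMap A B g)
  let C2 := Groth.RigFlat65.CL JC (h * algebraMap A C g)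
  let D2 := Groth.RigFlat65.CL (JC.map (algebraMap C D)) (algebraMap C D (h * algebraMap A C g))
  have hclA2 := Groth.RigFlat65.isCL_completion I g
  have hclB2 := Groth.RigFlat65.isCL_completion (I.map (algebraMap A B)) (algebraMap A B g)
  have hclC2 := Groth.RigFlat65.isCL_completion JC (h * algebraMap A C g)
  have hclD2 : Groth.RigFlat65.IsCL (JC.map (algebraMap C D)) (algebraMap C D h * algebraMap A D g) D2 :=
    Groth.RigFlat65.cl_congr rfl (by rw [map_mul, ← IsScalarTower.algebraMap_apply])
      (Groth.RigFlat65.isCL_completion (JC.map (algebraMap C D)) (algebraMap C D (h * algebraMap A C g)))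
  haveI : IsScalarTower A B B2 := IsScalarTower.of_algebraMap_eq fun a => rfl
  haveI : IsScalarTower A C C2 := IsScalarTower.of_algebraMap_eq fun a => rfl
  haveI : IsScalarTower A D D2 := IsScalarTower.of_algebraMap_eq fun a => rfl
  haveI : IsScalarTower C D D2 := IsScalarTower.of_algebraMap_eq fun a => rfl
  haveI : IsScalarTower B D D2 := IsScalarTower.of_algebraMap_eq fun a => rfl
  haveI : IsScalarTower A B D2 := IsScalarTower.of_algebraMap_eq fun a => by
    rw [IsScalarTower.algebraMap_apply B D D2, ← IsScalarTower.algebraMap_apply A B D,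
      ← IsScalarTower.algebraMap_apply A D D2]
  haveI : IsScalarTower A C D2 := IsScalarTower.of_algebraMap_eq fun a => by
    rw [IsScalarTower.algebraMap_apply C D D2, ← IsScalarTower.algebraMap_apply A C D,
      ← IsScalarTower.algebraMap_apply A D D2]
  haveI : IsNoetherianRing A2 := hclA2.noeth
  haveI : IsNoetherianRing B2 := hclB2.noeth
  haveI : IsNoetherianRing C2 := hclC2.noeth
  haveI : IsNoetherianRing D2 := hclD2.noeth
  haveI hA2c : IsAdicComplete (I.map (algebraMap A A2)) A2 := hclA2.complete
  have hB2c : IsAdicComplete (I.map (algebraMap A B2)) B2 :=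
    Groth.RigFlat65.complete_congr (Groth.RigFlat65.map_tower B B2 I) hclB2.complete
  have hC2c : IsAdicComplete (I.map (algebraMap A C2)) C2 :=
    Groth.RigFlat65.complete_congr (Groth.RigFlat65.map_tower C C2 I) hclC2.complete
  have hJ2 : (JC.map (algebraMap C D)).map (algebraMap D D2) = I.map (algebraMap A D2) :=
    (congrArg (Ideal.map (algebraMap D D2)) hJD').trans (Groth.RigFlat65.map_tower D D2 I)
  haveI hD2c : IsAdicComplete (I.map (algebraMap A D2)) D2 := Groth.RigFlat65.complete_congr hJ2 hclD2.complete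
  have huD : IsUnit (algebraMap A D2 g) :=
    Groth.RigFlat65.isUnit_down (B := D) (Groth.RigFlat65.isUnit_right _ hclD2.unit)
  have huCD : IsUnit (algebraMap C D2 (h * algebraMap A C g)) :=
    Groth.RigFlat65.isUnit_down (B := D)
      (Groth.RigFlat65.isCL_completion (JC.map (algebraMap C D)) (algebraMap C D (h * algebraMap A C g))).unit
  obtain ⟨φAB, hAB2⟩ := Groth.RigFlat65.CL.exists_hom (J := I) (f := g) (K := I.map (algebraMap A B2))
    (algebraMap A B2) (Groth.RigFlat65.isUnit_down (B := B) hclB2.unit) le_rfl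
  obtain ⟨φAC, hAC2⟩ := Groth.RigFlat65.CL.exists_hom (J := I) (f := g) (K := I.map (algebraMap A C2))
    (algebraMap A C2) (Groth.RigFlat65.isUnit_down (B := C) (Groth.RigFlat65.isUnit_right _ hclC2.unit)) le_rfl
  obtain ⟨φBD, hBD2⟩ := Groth.RigFlat65.CL.exists_hom (J := I.map (algebraMap A B)) (f := algebraMap A B g)
    (K := I.map (algebraMap A D2)) (algebraMap B D2) (Groth.RigFlat65.isUnit_up huD)
    (Groth.RigFlat65.map_tower B D2 I).le
  obtain ⟨φCD, hCD2⟩ := Groth.RigFlat65.CL.exists_hom (J := JC) (f := h * algebraMap A C g)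
    (K := I.map (algebraMap A D2)) (algebraMap C D2) huCD (Groth.RigFlat65.map_tower C D2 I).le
  obtain ⟨φC, hC12⟩ := Groth.RigFlat65.CL.exists_hom (J := JC) (f := h)
    (K := I.map (algebraMap A C2)) (algebraMap C C2) (Groth.RigFlat65.isUnit_left _ hclC2.unit)
    (Groth.RigFlat65.map_tower C C2 I).le
  obtain ⟨φD, hD12⟩ := hclD1.exists_hom (I.map (algebraMap A D2)) (algebraMap D D2)
    (Groth.RigFlat65.isUnit_left _ hclD2.unit) hJ2.le
  letI : Algebra A2 B2 := φAB.toAlgebra
  letI : Algebra A2 C2 := φAC.toAlgebra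
  letI : Algebra B2 D2 := φBD.toAlgebra
  letI : Algebra C2 D2 := φCD.toAlgebra
  letI : Algebra A2 D2 := (φBD.comp φAB).toAlgebra
  letI : Algebra C1 C2 := φC.toAlgebra
  letI : Algebra D1 D2 := φD.toAlgebra
  letI : Algebra C1 D1 := ψh.toAlgebra
  letI : Algebra C1 D2 := (φCD.comp φC).toAlgebra
  haveI : IsScalarTower A A2 B2 := IsScalarTower.of_algebraMap_eq fun a => (hAB2 a).symm
  haveI : IsScalarTower A A2 C2 := IsScalarTower.of_algebraMap_eq fun a => (hAC2 a).symm
  haveI : IsScalarTower B B2 D2 := IsScalarTower.of_algebraMap_eq fun a => (hBD2 a).symm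
  haveI : IsScalarTower C C2 D2 := IsScalarTower.of_algebraMap_eq fun a => (hCD2 a).symm
  haveI : IsScalarTower C C1 C2 := IsScalarTower.of_algebraMap_eq fun a => (hC12 a).symm
  haveI : IsScalarTower D D1 D2 := IsScalarTower.of_algebraMap_eq fun a => (hD12 a).symm
  haveI : IsScalarTower A2 B2 D2 := IsScalarTower.of_algebraMap_eq fun a => rfl
  haveI : IsScalarTower C1 C2 D2 := IsScalarTower.of_algebraMap_eq fun a => rfl
  haveI : IsScalarTower A C2 D2 := IsScalarTower.of_algebraMap_eq fun a => by
    rw [IsScalarTower.algebraMap_apply A C C2, ← IsScalarTower.algebraMap_apply C C2 D2,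
      ← IsScalarTower.algebraMap_apply A C D2]
  haveI : IsScalarTower A A2 D2 := IsScalarTower.of_algebraMap_eq fun a => by
    show _ = φBD (φAB (algebraMap A A2 a))
    rw [hAB2, IsScalarTower.algebraMap_apply A B B2, hBD2, ← IsScalarTower.algebraMap_apply A B D2]
  haveI : IsScalarTower A2 C2 D2 := hclA2.tower
  haveI : IsScalarTower A D1 D2 := IsScalarTower.of_algebraMap_eq fun a => by
    rw [IsScalarTower.algebraMap_apply A D D1, ← IsScalarTower.algebraMap_apply D D1 D2,
      ← IsScalarTower.algebraMap_apply A D D2]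
  haveI : IsScalarTower C C1 D1 := IsScalarTower.of_algebraMap_eq fun c =>
    ((hc c).trans (IsScalarTower.algebraMap_apply C D D1 c).symm).symm
  haveI : IsScalarTower C D1 D2 := IsScalarTower.of_algebraMap_eq fun c => by
    rw [IsScalarTower.algebraMap_apply C D D1, ← IsScalarTower.algebraMap_apply D D1 D2,
      ← IsScalarTower.algebraMap_apply C D D2]
  haveI : IsScalarTower C C1 D2 := IsScalarTower.of_algebraMap_eq fun c => by
    show _ = φCD (φC (algebraMap C C1 c))
    rw [hC12, hCD2]
  haveI : IsAdicComplete (JC.map (algebraMap C D2)) D2 :=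
    Groth.RigFlat65.complete_congr (Groth.RigFlat65.map_tower C D2 I).symm hD2c
  haveI : IsScalarTower C1 D1 D2 := hclC1.tower
  -- the points
  have hclD12 : Groth.RigFlat65.IsCL (I.map (algebraMap A D1)) (algebraMap A D1 g) D2 :=
    Groth.RigFlat65.cl_congr hJ1 (IsScalarTower.algebraMap_apply A D D1 g).symm (hclD1.of_mul hclD2)
  obtain ⟨q2, -, hq2c, hq2, hp2⟩ := href A2 D2 hclA2.unit hclD12
  have hq2' : Groth.RigFlat65.IsRig ((I.map (algebraMap A A2)).map (algebraMap A2 D2)) q2 :=
    Groth.RigFlat65.rig_congr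
      ((Groth.RigFlat65.map_tower D1 D2 I).trans (Groth.RigFlat65.map_tower A2 D2 I).symm) hq2
  haveI hD2c' : IsAdicComplete ((I.map (algebraMap A A2)).map (algebraMap A2 D2)) D2 :=
    Groth.RigFlat65.complete_congr (Groth.RigFlat65.map_tower A2 D2 I).symm hD2c
  haveI hB2c' : IsAdicComplete ((I.map (algebraMap A A2)).map (algebraMap A2 B2)) B2 :=
    Groth.RigFlat65.complete_congr (Groth.RigFlat65.map_tower A2 B2 I).symm hB2c
  haveI hC2c' : IsAdicComplete ((I.map (algebraMap A A2)).map (algebraMap A2 C2)) C2 :=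
    Groth.RigFlat65.complete_congr (Groth.RigFlat65.map_tower A2 C2 I).symm hC2c
  have hft2 : Algebra.FiniteType A2 (D2 ⧸ (I.map (algebraMap A A2)).map (algebraMap A2 D2)) :=
    Groth.RigFlat65.finiteType_congr (Groth.RigFlat65.map_tower A2 D2 I).symm
      (Groth.RigFlat65.finiteType_up A2
        (Groth.RigFlat65.finiteType_congr hJ2 (hclD2.finiteType (A := A) (hT := hftD))))
  obtain ⟨hqB, -⟩ := Groth.RigFlat65.rig_intermediate (T := A2) (U := B2) (S := D2) hft2 hq2' hp2
  obtain ⟨hqC, -⟩ := Groth.RigFlat65.rig_intermediate (T := A2) (U := C2) (S := D2) hft2 hq2' hp2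
  haveI := hftC
  have hftC2 : Algebra.FiniteType A2 (C2 ⧸ (I.map (algebraMap A A2)).map (algebraMap A2 C2)) :=
    Groth.RigFlat65.finiteType_congr (Groth.RigFlat65.map_tower A2 C2 I).symm
      (Groth.RigFlat65.finiteType_up A2
        (Groth.RigFlat65.finiteType_congr (Groth.RigFlat65.map_tower C C2 I) (hclC2.finiteType (A := A))))
  have hpC : PrimeSpectrum.comap (algebraMap A2 C2) (PrimeSpectrum.comap (algebraMap C2 D2) q2) =
      PrimeSpectrum.comap (algebraMap A2 D2) q2 := by
    rw [IsScalarTower.algebraMap_eq A2 C2 D2, PrimeSpectrum.comap_comp_apply]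
  have hfin : Module.Finite A2 (C2 ⧸ (PrimeSpectrum.comap (algebraMap C2 D2) q2).asIdeal) :=
    Groth.RigFlat65.finite_of_rig hftC2 hqC (hpC.symm ▸ hp2)
  have h1 := Groth.RigFlat65.flatAt_of_ringHom (T := A2) (S := B2) (hAB g φAB
    (Groth.RigFlat65.CL.comp_of_tower (I := I) (J := I.map (algebraMap A B)) (f := g)
      (fun a => IsLocalization.map_eq _ a)
      (fun a => (hAB2 a).trans (IsScalarTower.algebraMap_apply A B B2 a)))
    (PrimeSpectrum.comap (algebraMap B2 D2) q2)
    (Groth.RigFlat65.rig_congr (((Groth.RigFlat65.map_tower A2 B2 I).trans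
      (Groth.RigFlat65.map_tower B B2 I).symm).trans (Groth.RigFlat65.CL.map_map _ _).symm) hqB))
  have hclD2' := Groth.RigFlat65.isCL_completion (JC.map (algebraMap C D)) (algebraMap C D (h * algebraMap A C g))
  have h3 : Groth.RigFlat65.FlatAt C2 q2 := Groth.RigFlat65.flatAt_cl_baseChange I C B hCT
    (gC := h * algebraMap A C g) hclA2 hclB2 hclC2 hclD2'
    (fun R _ K hK φ hu hle => by
      haveI := hK
      exact Groth.RigFlat65.CL.exists_hom (K := K) φ hu hle)
    q2 hfin h1
  haveI : Module.Flat C1 C2 := (hclC1.of_mul hclC2).flat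
  haveI : Module.Flat D1 D2 := hclD12.flat
  exact (Groth.RigFlat65.FlatAt.descend (T := C1) (T' := C2) (S := D1) (S' := D2) hq2c h3).ringHom

end Groth.RigFlat65
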