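import Mathlib
import Groth.Agent.RigFlat65.Hom

/-! Étale reductions of completed localizations. -/

set_option autoImplicit false

universe u

namespace Groth.RigFlat65

theorem IsCL.isLocalization_quot_one {T : Type u} [CommRing T] {J : Ideal T} {f : T} {T' : Type u} [CommRing T']
    [Algebra T T'] (h : IsCL J f T') :
    IsLocalization.Away (Ideal.Quotient.mk J f) (T' ⧸ J.map (algebraMap T T')) := by
  have key : ∀ K : Ideal T, K = J ^ 1 → IsLocalization.Away (Ideal.Quotient.mk K f) (T' ⧸ K.map (algebraMap T T')) :=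
    fun K hK => by subst hK; exact h.isLocalization_quot 1
  exact key J (pow_one J).symm

theorem etale_cl {A A' : Type u} [CommRing A] [CommRing A'] [Algebra A A'] (I : Ideal A)
    [Algebra.Etale (A ⧸ I) (A' ⧸ I.map (algebraMap A A'))] {g : A} {h : A'}
    {A2 : Type u} [CommRing A2] [Algebra A A2] {A'2 : Type u} [CommRing A'2] [Algebra A' A'2] [Algebra A A'2]
    [Algebra A2 A'2] [IsScalarTower A A' A'2] [IsScalarTower A A2 A'2]
    (h2 : IsCL I g A2) (h2' : IsCL (I.map (algebraMap A A')) h A'2) :
    Algebra.Etale (A2 ⧸ I.map (algebraMap A A2)) (A'2 ⧸ (I.map (algebraMap A A2)).map (algebraMap A2 A'2)) := by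
  let R := A ⧸ I
  let U := A2 ⧸ I.map (algebraMap A A2)
  let W := A' ⧸ I.map (algebraMap A A')
  let K := (I.map (algebraMap A A2)).map (algebraMap A2 A'2)
  let V := A'2 ⧸ K
  let V' := A'2 ⧸ (I.map (algebraMap A A')).map (algebraMap A' A'2)
  have hK : (I.map (algebraMap A A')).map (algebraMap A' A'2) = K := by
    show _ = (I.map (algebraMap A A2)).map (algebraMap A2 A'2)
    rw [Ideal.map_map, Ideal.map_map, ← IsScalarTower.algebraMap_eq, ← IsScalarTower.algebraMap_eq]
  haveI := h2.isLocalization_quot_one
  haveI := h2'.isLocalization_quot_one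
  haveI : Algebra.Etale R U := Algebra.Etale.of_isLocalizationAway (Ideal.Quotient.mk I g)
  haveI : Algebra.Etale W V' := Algebra.Etale.of_isLocalizationAway (Ideal.Quotient.mk (I.map (algebraMap A A')) h)
  letI : Algebra R V' := ((algebraMap W V').comp (algebraMap R W)).toAlgebra
  haveI : IsScalarTower R W V' := IsScalarTower.of_algebraMap_eq fun r => rfl
  haveI : Algebra.Etale R V' := Algebra.Etale.comp R W V'
  letI : Algebra R V := ((algebraMap U V).comp (algebraMap R U)).toAlgebra
  haveI : IsScalarTower R U V := IsScalarTower.of_algebraMap_eq fun r => rfl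
  let e : V' ≃ₐ[R] V := AlgEquiv.ofRingEquiv (f := Ideal.quotEquivOfEq hK) (fun r => by
    obtain ⟨a, rfl⟩ := Ideal.Quotient.mk_surjective r
    show Ideal.Quotient.mk K (algebraMap A' A'2 (algebraMap A A' a)) =
      Ideal.Quotient.mk K (algebraMap A2 A'2 (algebraMap A A2 a))
    rw [← IsScalarTower.algebraMap_apply, ← IsScalarTower.algebraMap_apply])
  haveI : Algebra.Etale R V := Algebra.Etale.of_equiv e
  exact Algebra.Etale.of_restrictScalars (R := R) (A := U) (B := V)

end Groth.RigFlat65
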