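import Mathlib
import Groth.Agent.RigFlat65.Congr
import Groth.Agent.AdicLinTop.CompletionQuot
import Groth.Agent.AdicLinTop.Adic
import Groth.Agent.Calg1.Completion

/-! Finite quotients of completions; local rings modulo powers of the maximal ideals. -/

set_option autoImplicit false

universe u

namespace Groth.RigFlat65

/-- Finite quotients do not change under completion. -/
theorem exists_eq_ker {A P : Type u} [CommRing A] [IsNoetherianRing A] [CommRing P] [IsNoetherianRing P] [Algebra A P]
    (I : Ideal A) [IsAdicComplete I A] (Q : Ideal P) [Module.Finite A (P ⧸ Q)] :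
    ∃ F : AdicCompletion (I.map (algebraMap A P)) P →+* P ⧸ Q,
      (∀ a, F (algebraMap P _ a) = Ideal.Quotient.mk Q a) ∧
      RingHom.ker F = Q.map (algebraMap P (AdicCompletion (I.map (algebraMap A P)) P)) := by
  set J := I.map (algebraMap A P)
  set S := AdicCompletion J P
  have hfg : J.FG := IsNoetherian.noetherian _
  haveI : IsAdicComplete I (P ⧸ Q) := Groth.AdicLinTop.Adic.isAdicComplete_of_finite (A := A)
  haveI hc : IsAdicComplete (I.map (algebraMap A (P ⧸ Q))) (P ⧸ Q) :=
    (IsAdicComplete.map_algebraMap_iff (S := P ⧸ Q) (I := I) (P ⧸ Q)).mpr inferInstance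
  have hK : J.map (Ideal.Quotient.mk Q) = I.map (algebraMap A (P ⧸ Q)) := by
    rw [Ideal.map_map]; rfl
  obtain ⟨F, hF⟩ := Groth.AdicLinTop.CompletionQuot.exists_lift J (I.map (algebraMap A (P ⧸ Q)))
    (Ideal.Quotient.mk Q) hK.le
  have hF' : ∀ a, F (algebraMap P S a) = Ideal.Quotient.mk Q a := fun a => RingHom.congr_fun hF a
  refine ⟨F, hF', le_antisymm (fun x hx => ?_) (Ideal.map_le_iff_le_comap.mpr fun a ha => ?_)⟩
  · haveI : IsAdicComplete (J.map (algebraMap P S)) S := Groth.AdicLinTop.CompletionQuot.isAdicComplete_map J hfg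
    haveI : IsNoetherianRing S := Groth.Calg1.isNoetherianRing_adicCompletion J hfg
    set J' := J.map (algebraMap P S)
    set Q' := Q.map (algebraMap P S)
    have hall : Ideal.Quotient.mk Q' x ∈ (⨅ n : ℕ, J' ^ n • ⊤ : Submodule S (S ⧸ Q')) := by
      rw [Submodule.mem_iInf]
      intro n
      obtain ⟨a, ha⟩ := Groth.AdicLinTop.CompletionQuot.exists_sub_mem J hfg n x
      have h1 : F (x - algebraMap P S a) ∈ (J ^ n).map (Ideal.Quotient.mk Q) := by
        have h2 := Ideal.mem_map_of_mem F ha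
        rwa [Ideal.map_pow, Ideal.map_map, show F.comp (algebraMap P S) = Ideal.Quotient.mk Q from hF,
          ← Ideal.map_pow] at h2
      rw [map_sub, RingHom.mem_ker.mp hx, zero_sub, neg_mem_iff, hF', Ideal.mem_quotient_iff_mem_sup] at h1
      obtain ⟨i, hi, q, hq, hiq⟩ := Submodule.mem_sup.mp h1
      have hx' : x = (x - algebraMap P S a + algebraMap P S i) + algebraMap P S q := by
        rw [← hiq, map_add]; ring
      have hmem : x - algebraMap P S a + algebraMap P S i ∈ J' ^ n :=
        add_mem ha (by rw [← Ideal.map_pow]; exact Ideal.mem_map_of_mem _ hi)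
      rw [hx', map_add, Ideal.Quotient.eq_zero_iff_mem.mpr (Ideal.mem_map_of_mem _ hq : algebraMap P S q ∈ Q'), add_zero,
        show Ideal.Quotient.mk Q' (x - algebraMap P S a + algebraMap P S i) =
          (x - algebraMap P S a + algebraMap P S i) • (1 : S ⧸ Q') by rw [Algebra.smul_def, mul_one]; rfl]
      exact Submodule.smul_mem_smul hmem trivial
    rw [Ideal.iInf_pow_smul_eq_bot_of_le_jacobson J' (IsAdicComplete.le_jacobson_bot J'), Submodule.mem_bot,
      Ideal.Quotient.eq_zero_iff_mem] at hall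
    exact hall
  · rw [Ideal.mem_comap, RingHom.mem_ker, hF']
    exact Ideal.Quotient.eq_zero_iff_mem.mpr ha

theorem finite_quotient_pow {A P : Type u} [CommRing A] [CommRing P] [Algebra A P] [Algebra.FiniteType A P] (Q : Ideal P)
    [Algebra.IsIntegral A (P ⧸ Q)] (m : ℕ) : Module.Finite A (P ⧸ Q ^ m) := by
  haveI : Algebra.IsIntegral A (P ⧸ Q ^ m) := ⟨fun x => by
    obtain ⟨x, rfl⟩ := Ideal.Quotient.mk_surjective x
    obtain ⟨f, hf, hf0⟩ := Algebra.IsIntegral.isIntegral (R := A) (Ideal.Quotient.mk Q x)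
    have h1 : Polynomial.aeval x f ∈ Q := by
      rw [← Ideal.Quotient.eq_zero_iff_mem]
      show Ideal.Quotient.mkₐ A Q (Polynomial.aeval x f) = 0
      rw [← Polynomial.aeval_algHom_apply]
      exact hf0
    refine ⟨f ^ m, hf.pow m, ?_⟩
    show Polynomial.aeval (Ideal.Quotient.mkₐ A (Q ^ m) x) (f ^ m) = 0
    rw [Polynomial.aeval_algHom_apply, map_pow]
    exact Ideal.Quotient.eq_zero_iff_mem.mpr (Ideal.pow_mem_pow h1 m)⟩
  haveI : Algebra.FiniteType A (P ⧸ Q ^ m) :=
    Algebra.FiniteType.of_surjective (Ideal.Quotient.mkₐ A (Q ^ m)) Ideal.Quotient.mk_surjective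
  exact Algebra.IsIntegral.finite

/-- Isomorphic quotients by powers of primes give isomorphic truncated local rings. -/
theorem localRingHom_truncation {P S : Type u} [CommRing P] [CommRing S] (φ : P →+* S) (q : Ideal S) [q.IsPrime]
    (m : ℕ) (hm : 1 ≤ m) (hsurj : ∀ x : S, ∃ a, x - φ a ∈ q ^ m) (hinj : ∀ a, φ a ∈ q ^ m → a ∈ (q.comap φ) ^ m) :
    (∀ x, Localization.localRingHom (q.comap φ) q φ rfl x ∈ IsLocalRing.maximalIdeal (Localization.AtPrime q) ^ m →
      x ∈ IsLocalRing.maximalIdeal (Localization.AtPrime (q.comap φ)) ^ m) ∧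
    (∀ y, ∃ x, y - Localization.localRingHom (q.comap φ) q φ rfl x ∈
      IsLocalRing.maximalIdeal (Localization.AtPrime q) ^ m) := by
  set p := q.comap φ
  set Φ := Localization.localRingHom p q φ rfl
  have hmax : IsLocalRing.maximalIdeal (Localization.AtPrime q) ^ m = (q ^ m).map (algebraMap S _) := by
    rw [Ideal.map_pow, Localization.AtPrime.map_eq_maximalIdeal]
  have hmax' : IsLocalRing.maximalIdeal (Localization.AtPrime p) ^ m = (p ^ m).map (algebraMap P _) := by
    rw [Ideal.map_pow, Localization.AtPrime.map_eq_maximalIdeal]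
  have hq : q ^ m ≤ q := Ideal.pow_le_self (by omega)
  refine ⟨fun x hx => ?_, fun y => ?_⟩
  · obtain ⟨⟨a, s⟩, hs⟩ := IsLocalization.surj p.primeCompl x
    rw [hmax]at hx
    have h1 : algebraMap S (Localization.AtPrime q) (φ a) ∈ (q ^ m).map (algebraMap S _) := by
      rw [← Localization.localRingHom_to_map p q φ rfl, ← hs, map_mul]
      exact Ideal.mul_mem_right _ _ hx
    obtain ⟨t, ht, hta⟩ := (IsLocalization.algebraMap_mem_map_algebraMap_iff q.primeCompl (Localization.AtPrime q) _ _).mp h1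
    obtain ⟨t0, ht0⟩ := hsurj t
    have ht0p : t0 ∉ p := fun h => ht (by
      have := add_mem (hq ht0) h
      simpa using this)
    have h2 : t0 * a ∈ p ^ m := hinj _ (by
      have := sub_mem hta (Ideal.mul_mem_right (φ a) _ ht0)
      rw [map_mul]
      convert this using 1
      ring)
    rw [hmax', ← Ideal.mul_unit_mem_iff_mem _ (IsLocalization.map_units _ s), hs]
    exact (IsLocalization.algebraMap_mem_map_algebraMap_iff p.primeCompl (Localization.AtPrime p) _ _).mpr ⟨t0, ht0p, h2⟩
  · obtain ⟨⟨z, t⟩, hz⟩ := IsLocalization.surj q.primeCompl y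
    obtain ⟨z0, hz0⟩ := hsurj z
    obtain ⟨t0, ht0⟩ := hsurj t
    have ht0p : t0 ∉ p := fun h => t.2 (by
      have := add_mem (hq ht0) h
      simpa using this)
    refine ⟨IsLocalization.mk' _ z0 (⟨t0, ht0p⟩ : p.primeCompl), ?_⟩
    set x := IsLocalization.mk' (Localization.AtPrime p) z0 (⟨t0, ht0p⟩ : p.primeCompl)
    have hx : Φ x * algebraMap S _ (φ t0) = algebraMap S _ (φ z0) := by
      rw [← Localization.localRingHom_to_map p q φ rfl t0, ← map_mul, ← Localization.localRingHom_to_map p q φ rfl z0]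
      exact congrArg Φ (IsLocalization.mk'_spec (Localization.AtPrime p) z0 (⟨t0, ht0p⟩ : p.primeCompl))
    have hu : IsUnit (algebraMap S (Localization.AtPrime q) ((t : S) * φ t0)) :=
      IsLocalization.map_units _ (t * (⟨φ t0, ht0p⟩ : q.primeCompl))
    rw [hmax, ← Ideal.mul_unit_mem_iff_mem _ hu]
    have hnum : (y - Φ x) * algebraMap S _ ((t : S) * φ t0) = algebraMap S _ ((z - φ z0) * φ t0 - φ z0 * ((t : S) - φ t0)) := by
      have hz' : y * algebraMap S _ (t : S) = algebraMap S _ z := hz
      rw [map_sub, map_mul, map_mul, map_mul, map_sub, map_sub, ← hz', ← hx]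
      ring
    rw [hnum]
    exact Ideal.mem_map_of_mem _ (sub_mem (Ideal.mul_mem_right _ _ hz0) (Ideal.mul_mem_left _ _ ht0))

end Groth.RigFlat65
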